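import Cfsg.Agent.H63.RankThreeGen.Tri

/-!
# Commuting normal subgroups in a group without solvable normal subgroups
-/

set_option autoImplicit false

namespace Cfsg.Agent.H63.RankThree

universe u

variable {G : Type u} [Group G] [Finite G]

/-- A non-solvable group has a prime divisor outside any two given primes. -/
theorem exists_third_prime {H : Subgroup G} (hH : ¬ Group.IsSolvable H) {p q : ℕ} (hp : p.Prime)
    (hq : q.Prime) : ∃ r : ℕ, r.Prime ∧ r ∣ Nat.card H ∧ r ≠ p ∧ r ≠ q := by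
  by_contra hcon
  push Not at hcon
  obtain ⟨i, m, hm, hcard⟩ := Nat.exists_eq_pow_mul_and_not_dvd
    (Nat.card_pos (α := H)).ne' p hp.ne_one
  have hm0 : m ≠ 0 := fun e => hm (e ▸ dvd_zero p)
  have hmq : m = q ^ m.primeFactorsList.length :=
    Nat.eq_prime_pow_of_unique_prime_dvd hm0 fun {d} hd hdd =>
      hcon d hd (hcard ▸ hdd.mul_left _) (fun e => hm (e ▸ hdd))
  exact hH (H25.isSolvable_of_card_eq_mul_pow hp hq (hcard.trans (by rw [← hmq])))

namespace Tri

variable {a t s : ℕ} (h : Tri G a t s)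
include h

/-- In commuting normal subgroups, all elements of prime order have one type, which is not `a`. -/
theorem same_type (hr : ∀ K : Subgroup G, K.Normal → Group.IsSolvable K → K = ⊥)
    (K L : Subgroup G) [K.Normal] [L.Normal] (hKL : ∀ u ∈ K, ∀ v ∈ L, u * v = v * u)
    {u v : G} (hu : u ∈ K) {p : ℕ} (hp : p.Prime) (hup : orderOf u = p)
    (hv : v ∈ L) {q : ℕ} (hq : q.Prime) (hvq : orderOf v = q) :
    cc u ≠ a ∧ cc u = cc v := by
  have key : ∀ (K L : Subgroup G), K.Normal → L.Normal → (∀ u ∈ K, ∀ v ∈ L, u * v = v * u) →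
      ∀ u ∈ K, ∀ v ∈ L, ∀ {p q : ℕ}, p.Prime → q.Prime → orderOf u = p → orderOf v = q → p ≠ q →
        cc u ≠ a ∧ cc v ≠ a ∧ cc u = cc v := by
    intro K L hK hL hKL u hu v hv p q hp hq hup hvq hne
    have hco : (orderOf u).Coprime (orderOf v) := by
      rw [hup, hvq]; exact (Nat.coprime_primes hp hq).2 hne
    have hu1 : u ≠ 1 := fun e => hp.one_lt.ne' (by rw [← hup, e, orderOf_one])
    have hv1 : v ≠ 1 := fun e => hq.one_lt.ne' (by rw [← hvq, e, orderOf_one])
    have huv : Commute u v := hKL u hu v hv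
    have hzero : ∀ (K L : Subgroup G), L.Normal → (∀ u ∈ K, ∀ v ∈ L, u * v = v * u) →
        ∀ u ∈ K, ∀ v ∈ L, v ≠ 1 → C u ≤ C v → False := by
      intro K L hL hKL u hu v hv hv1 hle
      haveI := hL
      have hLu : L ≤ C u := fun x hx => mem_C.2 (hKL u hu x hx).symm
      haveI hX : (L ⊓ Subgroup.centralizer (L : Set G)).Normal := inferInstance
      have hXs : Group.IsSolvable (L ⊓ Subgroup.centralizer (L : Set G) : Subgroup G) :=
        Group.isSolvable_of_comm fun x y => Subtype.ext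
          (Subgroup.mem_centralizer_iff.1 y.2.2 x x.2.1)
      refine hv1 (Subgroup.mem_bot.1 (hr _ hX hXs ▸ ⟨hv, ?_⟩))
      exact Subgroup.mem_centralizer_iff.2 fun x hx => (mem_C.1 (hle (hLu hx))).eq
    have hua : cc u ≠ a := fun e => hzero K L hL hKL u hu v hv hv1 (h.le_of_a hu1 huv hco e)
    have hva : cc v ≠ a := fun e => hzero L K hK (fun x hx y hy => (hKL y hy x hx).symm) v hv u hu
      hu1 (h.le_of_a hv1 huv.symm hco.symm e)
    refine ⟨hua, hva, ?_⟩
    rcases (h.types u hu1).resolve_left hua with e | e <;>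
      rcases (h.types v hv1).resolve_left hva with e' | e'
    · rw [e, e']
    · exact (h.not_commute_coprime e e' hco huv).elim
    · exact (h.not_commute_coprime e' e hco.symm huv.symm).elim
    · rw [e, e']
  have hK : K.Normal := inferInstance
  have hL : L.Normal := inferInstance
  by_cases hne : p ≠ q
  · obtain ⟨h1, -, h3⟩ := key K L hK hL hKL u hu v hv hp hq hup hvq hne
    exact ⟨h1, h3⟩
  push Not at hne
  subst hne
  have hKs : ¬ Group.IsSolvable K := fun hs => by
    have := Subgroup.mem_bot.1 (hr K hK hs ▸ hu)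
    rw [this, orderOf_one] at hup
    exact hp.one_lt.ne hup
  have hLs : ¬ Group.IsSolvable L := fun hs => by
    have := Subgroup.mem_bot.1 (hr L hL hs ▸ hv)
    rw [this, orderOf_one] at hvq
    exact hp.one_lt.ne hvq
  obtain ⟨r, hr', hrL, hrp, -⟩ := exists_third_prime hLs hp hp
  obtain ⟨r', hr'', hr'K, hr'p, hr'r⟩ := exists_third_prime hKs hp hr'
  haveI := Fact.mk hr'
  haveI := Fact.mk hr''
  obtain ⟨v', hv'⟩ := exists_prime_orderOf_dvd_card' (G := L) r hrL
  obtain ⟨u', hu'⟩ := exists_prime_orderOf_dvd_card' (G := K) r' hr'K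
  rw [← Subgroup.orderOf_coe] at hu' hv'
  obtain ⟨h1, -, h2⟩ := key K L hK hL hKL u hu v' v'.2 hp hr' hup hv' hrp.symm
  obtain ⟨-, -, h3⟩ := key K L hK hL hKL u' u'.2 v' v'.2 hr'' hr' hu' hv' hr'r
  obtain ⟨-, -, h4⟩ := key K L hK hL hKL u' u'.2 v hv hr'' hp hu' hvq hr'p
  exact ⟨h1, h2.trans (h3.symm.trans h4)⟩

end Tri

end Cfsg.Agent.H63.RankThree
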