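import Cfsg.Agent.H63.RankThree.Fixed
import Cfsg.Agent.H63.RankThree.Commuting
import Cfsg.Agent.S3195

/-!
# Groups with three non-trivial class sizes: the strict-inclusion case
-/

set_option autoImplicit false

namespace Cfsg.Agent.H63.RankThree

universe u

variable {G : Type u} [Group G]

/-- `C x < C y` and three centraliser orders `a`, `b`, `c`. -/
structure Wit (G : Type u) [Group G] (x y : G) (a b c : ℕ) : Prop where
  hZ : Subgroup.center G = ⊥
  hns : ¬ Group.IsSolvable G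
  hx : x ≠ 1
  hy : y ≠ 1
  yprime : (orderOf y).Prime
  hlt : C x < C y
  ha : cc x = a
  hb : cc y = b
  hc : ∃ g : G, g ≠ 1 ∧ cc g = c
  types : ∀ g : G, g ≠ 1 → cc g = a ∨ cc g = b ∨ cc g = c
  hca : c ≠ a
  hcb : c ≠ b

/-- The standing hypotheses: a `Wit` in a group without solvable normal subgroups. -/
structure Ctx (G : Type u) [Group G] (x y : G) (a b c : ℕ) : Prop extends Wit G x y a b c where
  rfree : ∀ K : Subgroup G, K.Normal → Group.IsSolvable K → K = ⊥

namespace Wit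

variable [Finite G] {x y : G} {a b c : ℕ} (h : Wit G x y a b c)
include h

theorem a_dvd_b : a ∣ b := h.ha ▸ h.hb ▸ Subgroup.card_dvd_of_le h.hlt.le

theorem a_lt_b : a < b := by
  refine lt_of_le_of_ne (Nat.le_of_dvd (h.hb ▸ cc_pos y) h.a_dvd_b) fun e => h.hlt.ne ?_
  exact eq_C_of_le h.hlt.le (by rw [h.ha, h.hb, e])

theorem index_ne_one {g : G} (hg : g ≠ 1) : (C g).index ≠ 1 :=
  index_ne_one_of_center h.hZ hg

/-- `|G : C y|` divides `|G : C x|`. -/
theorem idx_dvd : (C y).index ∣ (C x).index := Subgroup.index_dvd_of_le h.hlt.le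

omit h in
theorem index_eq_of_cc {g g' : G} (e : cc g = cc g') : (C g).index = (C g').index :=
  Nat.eq_of_mul_eq_mul_left (cc_pos g') (by rw [index_mul_cc, ← e, index_mul_cc])

omit h in
theorem cc_dvd_of_le {g g' : G} (e : C g ≤ C g') : cc g ∣ cc g' := Subgroup.card_dvd_of_le e

theorem index_cases {g z : G} (hz : cc z = c) (hg : g ≠ 1) :
    (C g).index = (C x).index ∨ (C g).index = (C y).index ∨ (C g).index = (C z).index := by
  rcases h.types g hg with e | e | e
  · exact Or.inl (Wit.index_eq_of_cc (e.trans h.ha.symm))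
  · exact Or.inr (Or.inl (Wit.index_eq_of_cc (e.trans h.hb.symm)))
  · exact Or.inr (Or.inr (Wit.index_eq_of_cc (e.trans hz.symm)))

theorem coprime_index {z : G} (hz : cc z = c) : ((C y).index).Coprime (C z).index := by
  refine Nat.coprime_of_dvd fun p hp h1 h2 => ?_
  haveI := Fact.mk hp
  obtain ⟨w, hw1, -, -, hwi, -⟩ := exists_central (default : Sylow p G)
    (h1.trans (C y).index_dvd_card)
  rcases h.index_cases hz hw1 with e | e | e
  · exact hwi (e ▸ h1.trans h.idx_dvd)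
  · exact hwi (e ▸ h1)
  · exact hwi (e ▸ h2)

theorem b_not_dvd_c : ¬ b ∣ c := by
  intro hd
  obtain ⟨z, hz1, hz⟩ := h.hc
  have hcop := h.coprime_index hz
  have hdiv : (C z).index ∣ (C y).index := by
    obtain ⟨k, hk⟩ := hd
    refine ⟨k, Nat.eq_of_mul_eq_mul_left (cc_pos y) ?_⟩
    rw [index_mul_cc, ← index_mul_cc z, hz, hk, ← h.hb]; ring
  exact h.index_ne_one hz1 (Nat.dvd_one.1 (hcop ▸ Nat.dvd_gcd hdiv dvd_rfl))

theorem c_not_dvd_b : ¬ c ∣ b := by
  intro hd
  obtain ⟨z, hz1, hz⟩ := h.hc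
  have hcop := h.coprime_index hz
  have hdiv : (C y).index ∣ (C z).index := by
    obtain ⟨k, hk⟩ := hd
    refine ⟨k, Nat.eq_of_mul_eq_mul_left (cc_pos z) ?_⟩
    rw [index_mul_cc, ← index_mul_cc y, hz, h.hb, hk]; ring
  exact h.index_ne_one h.hy (Nat.dvd_one.1 (hcop ▸ Nat.dvd_gcd dvd_rfl hdiv))

theorem ne_one_b {g : G} (hg : cc g = b) : g ≠ 1 := by
  rintro rfl
  refine h.index_ne_one h.hy ?_
  rw [← Wit.index_eq_of_cc (hg.trans h.hb.symm), Subgroup.index_eq_one]
  exact eq_top_iff.2 fun w _ => mem_C.2 (Commute.one_right w)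

theorem ne_one_c {g : G} (hg : cc g = c) : g ≠ 1 := by
  rintro rfl
  obtain ⟨z, hz1, hz⟩ := h.hc
  refine h.index_ne_one hz1 ?_
  rw [← Wit.index_eq_of_cc (hg.trans hz.symm), Subgroup.index_eq_one]
  exact eq_top_iff.2 fun w _ => mem_C.2 (Commute.one_right w)

/-- The three orders form a `Tri`. -/
theorem tri : Tri G a b c where
  hZ := h.hZ
  hns := h.hns
  types := h.types
  hext := ⟨y, h.hy, h.hb⟩
  hexs := h.hc
  hta := fun e => h.a_lt_b.not_ge (Nat.le_of_dvd (h.ha ▸ cc_pos x) e)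
  hsa := fun e => h.c_not_dvd_b (e.trans h.a_dvd_b)
  hts := h.b_not_dvd_c
  hst := h.c_not_dvd_b
  cop := fun g z hg hz => by rw [Wit.index_eq_of_cc (hg.trans h.hb.symm)]; exact h.coprime_index hz

end Wit

namespace Ctx

variable [Finite G] {x y : G} {a b c : ℕ} (h : Ctx G x y a b c)
include h

/-- No index is a prime power. -/
theorem nsol (g : G) (hg : g ≠ 1) (p k : ℕ) (hp : p.Prime) : (C g).index ≠ p ^ k := fun e => by
  have hb := h.rfree _ Subgroup.normalClosure_normal (H25.isSolvable_normalClosure hp g ⟨k, e⟩)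
  exact hg (Subgroup.mem_bot.1 (hb ▸ Subgroup.subset_normalClosure (Set.mem_singleton g)))

/-- Elements of types `b` and `c` never commute. -/
theorem not_commute {g z : G} (hg : cc g = b) (hz : cc z = c) (hgz : Commute g z) : False := by
  have hg1 := h.ne_one_b hg
  have hz1 := h.ne_one_c hz
  have hcop : ((C g).index).Coprime (C z).index := by
    rw [Wit.index_eq_of_cc (hg.trans h.hb.symm)]; exact h.coprime_index hz
  set K := Subgroup.normalClosure ({g} : Set G) with hK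
  have hle : K ≤ C z := by
    rw [hK, Subgroup.normalClosure, Subgroup.closure_le]
    intro v hv
    obtain ⟨g', hg', hconj⟩ := Group.mem_conjugatesOfSet_iff.1 hv
    rw [Set.mem_singleton_iff] at hg'
    subst hg'
    obtain ⟨w, rfl⟩ := isConj_iff.1 hconj
    obtain ⟨u, hu, hk⟩ := exists_factor hcop w
    have e : w * g' * w⁻¹ = u * g' * u⁻¹ := by
      have hk' := (mem_C.1 hk).eq
      calc w * g' * w⁻¹ = u * ((u⁻¹ * w) * g') * w⁻¹ := by group
        _ = u * (g' * (u⁻¹ * w)) * w⁻¹ := by rw [hk']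
        _ = u * g' * u⁻¹ := by group
    show w * g' * w⁻¹ ∈ C z
    rw [e]
    exact (C z).mul_mem ((C z).mul_mem hu (mem_C.2 hgz)) ((C z).inv_mem hu)
  haveI : K.Normal := Subgroup.normalClosure_normal
  have hgK : g ∈ K := Subgroup.subset_normalClosure (Set.mem_singleton g)
  have hzL : z ∈ Subgroup.centralizer (K : Set G) :=
    Subgroup.mem_centralizer_iff.2 fun u hu => (mem_C.1 (hle hu)).eq
  obtain ⟨i, q, hq, hgi, -⟩ := exists_pow_prime hg1
  obtain ⟨j, r, hr, hzj, -⟩ := exists_pow_prime hz1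
  have hgi1 : g ^ i ≠ 1 := fun e => hq.one_lt.ne' (by rw [← hgi, e, orderOf_one])
  have hzj1 : z ^ j ≠ 1 := fun e => hr.one_lt.ne' (by rw [← hzj, e, orderOf_one])
  have hgb : cc (g ^ i) = b := by
    have hd : b ∣ cc (g ^ i) := hg ▸ Subgroup.card_dvd_of_le (C_le_pow g i)
    rcases h.types _ hgi1 with e | e | e
    · exact absurd (e ▸ hd) h.toWit.tri.hta
    · exact e
    · exact absurd (e ▸ hd) h.b_not_dvd_c
  have hzc : cc (z ^ j) = c := by
    have hd : c ∣ cc (z ^ j) := hz ▸ Subgroup.card_dvd_of_le (C_le_pow z j)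
    rcases h.types _ hzj1 with e | e | e
    · exact absurd (e ▸ hd) h.toWit.tri.hsa
    · exact absurd (e ▸ hd) h.c_not_dvd_b
    · exact e
  exact h.hcb (hzc.symm.trans ((h.toWit.tri.same_type h.rfree K (Subgroup.centralizer (K : Set G))
    (fun u hu v hv => Subgroup.mem_centralizer_iff.1 hv u hu) (K.pow_mem hgK i) hq hgi
    ((Subgroup.centralizer (K : Set G)).pow_mem hzL j) hr hzj).2.symm.trans hgb))

/-- Primes dividing `|G : C y|` divide neither `a` nor `b`. -/
theorem not_dvd_b {p : ℕ} (hp : p.Prime) (hm : p ∣ (C y).index) : ¬ p ∣ b := by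
  intro hd
  haveI := Fact.mk hp
  obtain ⟨zc, hzc1, hzc⟩ := h.hc
  have hpzc : ¬ p ∣ (C zc).index := fun e =>
    hp.not_dvd_one ((h.coprime_index hzc) ▸ Nat.dvd_gcd hm e)
  have hnb : ∀ v : G, (∃ k : ℕ, orderOf v = p ^ k) → cc v ≠ b := by
    intro v hv hvb
    obtain ⟨k, hk⟩ := exists_conj_mem hv hpzc
    exact h.not_commute ((cc_conj k v).trans hvb) hzc (mem_C.1 hk)
  obtain ⟨u', hu'⟩ := exists_prime_orderOf_dvd_card' (G := C y) p (by rw [← cc, h.hb]; exact hd)
  rw [← Subgroup.orderOf_coe] at hu'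
  set u : G := (u' : G) with hu
  have hu1 : u ≠ 1 := fun e => hp.one_lt.ne' (by rw [← hu', e, orderOf_one])
  have huy : Commute u y := mem_C.1 u'.2
  rcases h.types u hu1 with e | e | e
  · have hne : orderOf y ≠ p := fun e' => hnb y ⟨1, by rw [e', pow_one]⟩ h.hb
    have hco : (orderOf u).Coprime (orderOf y) := by
      rw [hu']; exact (Nat.coprime_primes hp h.yprime).2 hne.symm
    have hle := C_mul_le huy hco
    have h1 : u * y ≠ 1 := mul_ne_one_of_coprime hu1 hco
    have hd' : cc (u * y) ∣ a := e ▸ Wit.cc_dvd_of_le hle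
    have hccuy : cc (u * y) = a := by
      rcases h.types _ h1 with e' | e' | e'
      · exact e'
      · exact absurd (Nat.le_of_dvd (h.ha ▸ cc_pos x) (e' ▸ hd')) h.a_lt_b.not_ge
      · exact absurd ((e' ▸ hd').trans h.a_dvd_b) h.c_not_dvd_b
    have hle' : C u ≤ C y := by
      rw [← eq_C_of_le hle (by rw [e, hccuy]), huy.eq]
      exact C_mul_le huy.symm hco.symm
    obtain ⟨S, hS⟩ := (IsPGroup.of_card (G := Subgroup.zpowers u) (p := p) (n := 1)
      (by rw [Nat.card_zpowers, hu', pow_one])).exists_le_sylow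
    obtain ⟨w, hw1, hwS, hle2, hwi, -⟩ := exists_central S
      (hd.trans (h.hb ▸ Subgroup.card_subgroup_dvd_card (C y)))
    have hwu : w ∈ C u := mem_C.2 (mem_C.1 (hle2 (hS (Subgroup.mem_zpowers u)))).symm
    have hwc : cc w = c := by
      rcases h.types w hw1 with e' | e' | e'
      · exact absurd (Wit.index_eq_of_cc (e'.trans h.ha.symm) ▸ hm.trans h.idx_dvd) hwi
      · exact absurd (Wit.index_eq_of_cc (e'.trans h.hb.symm) ▸ hm) hwi
      · exact e'
    exact h.not_commute h.hb hwc (mem_C.1 (hle' hwu)).symm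
  · exact hnb u ⟨1, by rw [hu', pow_one]⟩ e
  · exact h.not_commute h.hb e huy.symm

theorem not_dvd_a {p : ℕ} (hp : p.Prime) (hm : p ∣ (C y).index) : ¬ p ∣ a := fun e =>
  h.not_dvd_b hp hm (e.trans h.a_dvd_b)

theorem type_c_of_index {p : ℕ} (hp : p.Prime) (hm : p ∣ (C y).index) {g : G} (hg : g ≠ 1)
    (hd : p ∣ cc g) : cc g = c := by
  rcases h.types g hg with e | e | e
  · exact absurd (e ▸ hd) (h.not_dvd_a hp hm)
  · exact absurd (e ▸ hd) (h.not_dvd_b hp hm)
  · exact e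

/-- An element of prime order of type `c`. -/
theorem exists_pc : ∃ (p : ℕ) (z : G), p.Prime ∧ p ∣ (C y).index ∧ orderOf z = p ∧ cc z = c := by
  obtain ⟨p, hp, hm⟩ := Nat.exists_prime_and_dvd (h.index_ne_one h.hy)
  haveI := Fact.mk hp
  obtain ⟨z, hz⟩ := exists_prime_orderOf_dvd_card' (G := G) p (hm.trans (C y).index_dvd_card)
  exact ⟨p, z, hp, hm, hz, h.type_c_of_index hp hm
    (fun e => hp.one_lt.ne' (by rw [← hz, e, orderOf_one])) (hz ▸ orderOf_dvd_cc_self z)⟩

/-- Every prime divisor of `|G|` divides one of the two big indices. -/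
theorem cover {q : ℕ} (hq : q.Prime) (hd : q ∣ Nat.card G) {z : G} (hz : cc z = c) :
    q ∣ (C y).index ∨ q ∣ (C z).index := by
  by_contra hcon
  push Not at hcon
  haveI := Fact.mk hq
  obtain ⟨p, z₀, hp, hm, hz₀, hz₀c⟩ := h.exists_pc
  obtain ⟨u, hu⟩ := exists_prime_orderOf_dvd_card' (G := G) q hd
  obtain ⟨k, hk⟩ := exists_conj_mem (g := z₀) ⟨1, by rw [hu, pow_one]⟩
    (Wit.index_eq_of_cc (hz₀c.trans hz.symm) ▸ hcon.2)
  obtain ⟨l, hl⟩ := exists_conj_mem (g := y) (u := u) ⟨1, by rw [hu, pow_one]⟩ hcon.1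
  have hu1 : u ≠ 1 := fun e => hq.one_lt.ne' (by rw [← hu, e, orderOf_one])
  have huc : cc u = c := by
    rw [← cc_conj k u]
    refine h.type_c_of_index hp hm (fun e => hu1 (conj_eq_one_iff.1 e)) ?_
    rw [← hz₀]
    exact orderOf_dvd_cc (mem_C.2 (mem_C.1 hk).symm)
  exact h.not_commute h.hb ((cc_conj l u).trans huc) (mem_C.1 hl).symm

/-- Primes dividing `|G : C z|`, `z` of type `c`, do not divide `c`. -/
theorem not_dvd_c {q : ℕ} (hq : q.Prime) {z : G} (hz : cc z = c) (hm : q ∣ (C z).index) :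
    ¬ q ∣ c := by
  intro hd
  haveI := Fact.mk hq
  obtain ⟨p, z₀, hp, hmp, hz₀, hz₀c⟩ := h.exists_pc
  have hm₀ : q ∣ (C z₀).index := Wit.index_eq_of_cc (hz₀c.trans hz.symm) ▸ hm
  have hne : p ≠ q := by
    rintro rfl
    exact hp.not_dvd_one ((h.coprime_index hz₀c) ▸ Nat.dvd_gcd hmp hm₀)
  obtain ⟨u', hu'⟩ := exists_prime_orderOf_dvd_card' (G := C z₀) q (by rw [← cc, hz₀c]; exact hd)
  rw [← Subgroup.orderOf_coe] at hu'
  set u : G := (u' : G) with hu
  have hu1 : u ≠ 1 := fun e => hq.one_lt.ne' (by rw [← hu', e, orderOf_one])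
  have huz : Commute u z₀ := mem_C.1 u'.2
  have hco : (orderOf u).Coprime (orderOf z₀) := by
    rw [hu', hz₀]; exact (Nat.coprime_primes hq hp).2 hne.symm
  have hp1 : p ∣ cc (u * z₀) := by
    rw [← hz₀]
    exact orderOf_dvd_cc (mem_C.2 (huz.symm.mul_right (Commute.refl z₀)))
  have hc1 : cc (u * z₀) = c :=
    h.type_c_of_index hp hmp (mul_ne_one_of_coprime hu1 hco) hp1
  have hle : C (u * z₀) ≤ C z₀ := by
    rw [huz.eq]; exact C_mul_le huz.symm hco.symm
  have hle' : C z₀ ≤ C u := by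
    rw [← eq_C_of_le hle (by rw [hc1, hz₀c])]; exact C_mul_le huz hco
  have huc : cc u = c := h.type_c_of_index hp hmp hu1
    (by rw [← hz₀]; exact orderOf_dvd_cc (hle' (self_mem_C z₀)))
  obtain ⟨S, hS⟩ := (IsPGroup.of_card (G := Subgroup.zpowers u) (p := q) (n := 1)
    (by rw [Nat.card_zpowers, hu', pow_one])).exists_le_sylow
  obtain ⟨w, hw1, hwS, hle2, hwi, -⟩ := exists_central S (hm.trans (C z).index_dvd_card)
  have huw : Commute u w := mem_C.1 (hle2 (hS (Subgroup.mem_zpowers u)))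
  rcases h.types w hw1 with e | e | e
  · have hqa : ¬ q ∣ (C x).index := Wit.index_eq_of_cc (e.trans h.ha.symm) ▸ hwi
    obtain ⟨k, hk⟩ := exists_conj_mem (g := x) (u := u) ⟨1, by rw [hu', pow_one]⟩ hqa
    exact h.not_commute h.hb ((cc_conj k u).trans huc) (mem_C.1 (h.hlt.le hk)).symm
  · exact h.not_commute e huc huw.symm
  · exact hwi (Wit.index_eq_of_cc (e.trans hz.symm) ▸ hm)

theorem coprime_bc : b.Coprime c := by
  refine Nat.coprime_of_dvd fun q hq h1 h2 => ?_
  obtain ⟨z, -, hz⟩ := h.hc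
  rcases h.cover hq (h1.trans (h.hb ▸ Subgroup.card_subgroup_dvd_card (C y))) hz with e | e
  · exact h.not_dvd_b hq e h1
  · exact h.not_dvd_c hq hz e h2

theorem coprime_ac : a.Coprime c := h.coprime_bc.coprime_dvd_left h.a_dvd_b

theorem index_b : (C y).index = c := by
  obtain ⟨z, -, hz⟩ := h.hc
  have e : b * (C y).index = c * (C z).index := by
    rw [← h.hb, ← hz, index_mul_cc, index_mul_cc]
  exact Nat.dvd_antisymm ((h.coprime_index hz).dvd_of_dvd_mul_right (Dvd.intro_left _ e))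
    (h.coprime_bc.symm.dvd_of_dvd_mul_left (Dvd.intro _ e.symm))

theorem card_eq : Nat.card G = b * c := by rw [← index_mul_cc y, h.hb, h.index_b]

theorem index_of_b {g : G} (hg : cc g = b) : (C g).index = c :=
  (Wit.index_eq_of_cc (hg.trans h.hb.symm)).trans h.index_b

theorem index_of_c {g : G} (hg : cc g = c) : (C g).index = b :=
  Nat.eq_of_mul_eq_mul_left (hg ▸ cc_pos g : 0 < c)
    (by rw [← hg, index_mul_cc, h.card_eq, hg, mul_comm])

theorem type_c {p : ℕ} (hp : p.Prime) (hpc : p ∣ c) {g : G} (hg : g ≠ 1) (hd : p ∣ cc g) :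
    cc g = c := h.type_c_of_index hp (h.index_b ▸ hpc) hg hd

theorem exists_other {q : ℕ} (hq : q.Prime) : ∃ r : ℕ, r.Prime ∧ r ∣ c ∧ r ≠ q := by
  by_contra hcon
  push Not at hcon
  have hc0 : c ≠ 0 := h.index_b ▸ (C y).index_ne_zero_of_finite
  exact h.nsol y h.hy q c.primeFactorsList.length hq (h.index_b.trans
    (Nat.eq_prime_pow_of_unique_prime_dvd hc0 fun hr hd => hcon _ hr hd))

theorem eq_of_coprime {u v : G} {p q : ℕ} (hp : p.Prime) (hpc : p ∣ c) (hu : orderOf u = p)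
    (hq : q.Prime) (hqc : q ∣ c) (hv : orderOf v = q) (hne : p ≠ q) (huv : Commute u v) :
    C u = C v := by
  have hco : (orderOf u).Coprime (orderOf v) := by
    rw [hu, hv]; exact (Nat.coprime_primes hp hq).2 hne
  have hu1 : u ≠ 1 := fun e => hp.one_lt.ne' (by rw [← hu, e, orderOf_one])
  have hv1 : v ≠ 1 := fun e => hq.one_lt.ne' (by rw [← hv, e, orderOf_one])
  have h1 : cc (u * v) = c := h.type_c hp hpc (mul_ne_one_of_coprime hu1 hco)
    (by rw [← hu]; exact orderOf_dvd_cc (mem_C.2 ((Commute.refl u).mul_right huv)))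
  have h2 : cc u = c := h.type_c hp hpc hu1 (hu ▸ orderOf_dvd_cc_self u)
  have h3 : cc v = c := h.type_c hq hqc hv1 (hv ▸ orderOf_dvd_cc_self v)
  rw [← eq_C_of_le (C_mul_le huv hco) (by rw [h1, h2])]
  refine eq_C_of_le ?_ (by rw [h1, h3])
  rw [huv.eq]
  exact C_mul_le huv.symm hco.symm

theorem eq_of_prime {u v : G} {p q : ℕ} (hp : p.Prime) (hpc : p ∣ c) (hu : orderOf u = p)
    (hq : q.Prime) (hqc : q ∣ c) (hv : orderOf v = q) (huv : Commute u v) : C u = C v := by
  by_cases hne : p = q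
  · subst hne
    obtain ⟨r, hr, hrc, hrp⟩ := h.exists_other hp
    haveI := Fact.mk hr
    have hu1 : u ≠ 1 := fun e => hp.one_lt.ne' (by rw [← hu, e, orderOf_one])
    have h2 : cc u = c := h.type_c hp hpc hu1 (hu ▸ orderOf_dvd_cc_self u)
    obtain ⟨w', hw'⟩ := exists_prime_orderOf_dvd_card' (G := C u) r (by rw [← cc, h2]; exact hrc)
    rw [← Subgroup.orderOf_coe] at hw'
    have e1 := h.eq_of_coprime hr hrc hw' hp hpc hu hrp (mem_C.1 w'.2)
    rw [← e1]
    refine h.eq_of_coprime hr hrc hw' hp hpc hv hrp ?_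
    have hvw : v ∈ C (w' : G) := by rw [e1]; exact mem_C.2 huv.symm
    exact (mem_C.1 hvw).symm
  · exact h.eq_of_coprime hp hpc hu hq hqc hv hne huv

/-- The centraliser of a type `c` element is that of each of its nontrivial elements. -/
theorem cent_eq {z w : G} (hz : cc z = c) (hw : w ∈ C z) (hw1 : w ≠ 1) : C w = C z := by
  have key : ∀ g : G, g ≠ 1 → (∀ q : ℕ, q.Prime → q ∣ orderOf g → q ∣ c) →
      ∃ (v : G) (q : ℕ), q.Prime ∧ q ∣ c ∧ orderOf v = q ∧ C g = C v ∧ v ∈ Subgroup.zpowers g := by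
    intro g hg hall
    obtain ⟨k, q, hq, hv, hd⟩ := exists_pow_prime hg
    have hqc := hall q hq hd
    have h1 : cc g = c := h.type_c hq hqc hg (hd.trans (orderOf_dvd_cc_self g))
    have hv1 : g ^ k ≠ 1 := fun e => hq.one_lt.ne' (by rw [← hv, e, orderOf_one])
    have h2 : cc (g ^ k) = c := h.type_c hq hqc hv1 (hv ▸ orderOf_dvd_cc_self (g ^ k))
    exact ⟨g ^ k, q, hq, hqc, hv, eq_C_of_le (C_le_pow g k) (by rw [h1, h2]),
      pow_mem (Subgroup.mem_zpowers g) k⟩
  obtain ⟨u, p, hp, hpc, hu, eu, -⟩ := key z (h.ne_one_c hz)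
    fun q _ hd => hz ▸ hd.trans (orderOf_dvd_cc_self z)
  obtain ⟨v, q, hq, hqc, hv, ev, hvw⟩ := key w hw1
    fun q _ hd => hz ▸ hd.trans (orderOf_dvd_cc hw)
  rw [ev, eu]
  have hvz : v ∈ C u := eu ▸ (Subgroup.zpowers_le.2 hw) hvw
  exact h.eq_of_prime hq hqc hv hp hpc hu (mem_C.1 hvz)

theorem comm_of_c {z : G} (hz : cc z = c) {u v : G} (hu : u ∈ C z) (hv : v ∈ C z) :
    u * v = v * u := by
  rcases eq_or_ne v 1 with rfl | hv1
  · simp
  · rw [← h.cent_eq hz hv hv1] at hu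
    exact (mem_C.1 hu).eq

theorem cc_of_mem {z w : G} (hz : cc z = c) (hw : w ∈ C z) (hw1 : w ≠ 1) : cc w = c := by
  rw [cc, h.cent_eq hz hw hw1]; exact hz

/-- `O₂(G) = 1`. -/
theorem pCore_eq_bot : Cfsg.pCore 2 G = ⊥ := by
  rw [Cfsg.pCore, sSup_eq_bot]
  rintro N ⟨hN, hNp⟩
  haveI := Fact.mk Nat.prime_two
  haveI : Group.IsNilpotent N := hNp.isNilpotent
  exact h.rfree N hN inferInstance

theorem exists_inverted {i : G} (hi : orderOf i = 2) :
    ∃ v : G, v ≠ 1 ∧ Odd (orderOf v) ∧ i * v * i⁻¹ = v⁻¹ := by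
  have h2 : i * i = 1 := by rw [← pow_two, ← hi, pow_orderOf_eq_one]
  have hinv : i⁻¹ = i := inv_eq_of_mul_eq_one_right h2
  have hn : i ∉ Cfsg.pCore 2 G := by
    rw [h.pCore_eq_bot, Subgroup.mem_bot]
    rintro rfl
    rw [orderOf_one] at hi
    exact absurd hi (by decide)
  obtain ⟨v, hv1, hvo, hv⟩ := S3195.exists_inverted i h2 hn
  exact ⟨v, hv1, hvo, by rw [hinv]; exact hv⟩

end Ctx

end Cfsg.Agent.H63.RankThree
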