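import Cfsg.Agent.H63.RankThree.Inverted
import Cfsg.Agent.S0215
import Cfsg.Agent.S0205
import Cfsg.Agent.H63.RankThreeGen.Alpha

/-!
# The strict-inclusion case with `|G : C z|` even, `z` of type `c`
-/

set_option autoImplicit false

namespace Cfsg.Agent.H63.RankThree

universe u

variable {G : Type u} [Group G] [Finite G]

/-- A Sylow subgroup containing `i` and centralising it. -/
theorem exists_sylow_le_C {p : ℕ} [Fact p.Prime] {i : G} (hi : ∃ k : ℕ, orderOf i = p ^ k)
    (hidx : ¬ p ∣ (C i).index) : ∃ S : Sylow p G, i ∈ S ∧ (S : Subgroup G) ≤ C i := by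
  obtain ⟨k, hk⟩ := hi
  have hz : IsPGroup p (Subgroup.zpowers (⟨i, self_mem_C i⟩ : C i)) :=
    IsPGroup.of_card (n := k) (by rw [Nat.card_zpowers, Subgroup.orderOf_mk, hk])
  obtain ⟨P, hP⟩ := hz.exists_le_sylow
  have hQ : IsPGroup p ((P : Subgroup (C i)).map (C i).subtype) := P.2.map _
  have hd : ¬ p ∣ ((P : Subgroup (C i)).map (C i).subtype).index := by
    rw [Subgroup.index_map_subtype]
    exact fun e => ((Fact.out : p.Prime).dvd_mul.1 e).elim P.not_dvd_index hidx
  refine ⟨hQ.toSylow hd, ⟨⟨i, self_mem_C i⟩, hP (Subgroup.mem_zpowers _), rfl⟩, ?_⟩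
  rintro _ ⟨⟨w, hw⟩, -, rfl⟩
  exact hw

namespace Ctx

variable {x y : G} {a b c : ℕ} (h : Ctx G x y a b c) (h2 : 2 ∣ b)
include h h2

theorem not_two_dvd_c : ¬ 2 ∣ c := fun e =>
  Nat.prime_two.not_dvd_one (h.coprime_bc ▸ Nat.dvd_gcd h2 e)

/-- An involution with a Sylow 2-subgroup in its centraliser has another conjugate there. -/
theorem exists_conj_ne {i : G} (hi : orderOf i = 2) (hidx : ¬ 2 ∣ (C i).index) :
    ∃ k : G, k * i * k⁻¹ ≠ i ∧ k * i * k⁻¹ ∈ C i := by
  haveI := Fact.mk Nat.prime_two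
  obtain ⟨S, hiS, hSC⟩ := exists_sylow_le_C (p := 2) ⟨1, by rw [hi, pow_one]⟩ hidx
  by_contra hcon
  push Not at hcon
  obtain ⟨N, hN, hodd, hcomm⟩ := S0215.result S i hi hiS fun g hg => by
    by_contra hne
    exact hcon g hne (hSC hg)
  have e := h.rfree N hN (S0205.result hodd)
  subst e
  have : i ∈ Subgroup.center G := Subgroup.mem_center_iff.2 fun g => by
    have := Subgroup.mem_bot.1 (hcomm g)
    rw [mul_inv_eq_one, mul_inv_eq_iff_eq_mul] at this
    exact this.symm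
  rw [h.hZ, Subgroup.mem_bot] at this
  subst this
  simp at hi

/-- Some involution with a Sylow 2-subgroup in its centraliser has type `a`. -/
theorem exists_invol_a :
    ∃ z : G, orderOf z = 2 ∧ cc z = a ∧ ¬ 2 ∣ (C z).index := by
  haveI := Fact.mk Nat.prime_two
  haveI : Nontrivial G := ⟨⟨x, 1, h.hx⟩⟩
  obtain ⟨M, ⟨hM, hMne⟩, hMmin'⟩ := (Set.toFinite {X : Subgroup G | X.Normal ∧ X ≠ ⊥}).exists_minimal
    ⟨⊤, inferInstance, top_ne_bot⟩
  haveI := hM
  have hMmin : ∀ X : Subgroup G, X.Normal → X ≤ M → X = ⊥ ∨ X = M := fun X hX hle =>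
    or_iff_not_imp_left.2 fun hne => le_antisymm hle (hMmin' ⟨hX, hne⟩ hle)
  have hMs : ¬ Group.IsSolvable M := fun hs => hMne (h.rfree M hM hs)
  obtain ⟨T, z, hz, hzM, hzT, hT⟩ := exists_central_normal M (two_dvd_nonsolvable hMs)
  have hz1 : z ≠ 1 := fun e => by simp [e] at hz
  have hzc : cc z ≠ c := fun e => h.not_two_dvd_c h2 (e ▸ hz ▸ orderOf_dvd_cc_self z)
  have hzi := index_not_dvd_of_sylow_le T hT
  rcases h.types z hz1 with e | e | e
  · exact ⟨z, hz, e, hzi⟩
  swap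
  · exact absurd e hzc
  exfalso
  obtain ⟨w, -, hw⟩ := h.hc
  have hync : ∃ u ∈ M, ¬ Commute z u := by
    by_contra hall
    push Not at hall
    have hX : Group.IsSolvable (M ⊓ Subgroup.centralizer (M : Set G) : Subgroup G) :=
      Group.isSolvable_of_comm fun p q => Subtype.ext
        (Subgroup.mem_centralizer_iff.1 q.2.2 p p.2.1)
    refine hz1 (Subgroup.mem_bot.1 (h.rfree _ inferInstance hX ▸ ⟨hzM, ?_⟩))
    exact Subgroup.mem_centralizer_iff.2 fun u hu => (hall u hu).eq.symm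
  -- every conjugate of `z` centralises an `M`-conjugate
  have hsurj : ∀ k : G, ∃ u ∈ M, Commute (u * z * u⁻¹) (k * z * k⁻¹) := by
    intro k
    have hd : ¬ 2 ∣ ((C (k * z * k⁻¹)).subgroupOf M).index := fun hd => h.not_two_dvd_c h2
      (h.index_of_b ((cc_conj k z).trans e) ▸ hd.trans (relIndex_dvd_index (C (k * z * k⁻¹)) M))
    obtain ⟨q, hq⟩ := (IsPGroup.of_card (G := Subgroup.zpowers (⟨z, hzM⟩ : M)) (p := 2) (n := 1)
      (by rw [Nat.card_zpowers, Subgroup.orderOf_mk, hz, pow_one])).nonempty_fixed_point_of_prime_not_dvd_card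
        (M ⧸ (C (k * z * k⁻¹)).subgroupOf M) hd
    obtain ⟨n, rfl⟩ := QuotientGroup.mk_surjective q
    have h1 := QuotientGroup.eq.1 (hq ⟨_, Subgroup.mem_zpowers _⟩)
    refine ⟨(n⁻¹ : M), (n⁻¹ : M).2, ?_⟩
    have h2' := ((C (k * z * k⁻¹)).subgroupOf M).inv_mem h1
    rw [Subgroup.mem_subgroupOf] at h2'
    exact mem_C.1 (by simpa [mul_assoc] using h2' : ((n⁻¹ : M) : G) * z * ((n⁻¹ : M) : G)⁻¹ ∈
      C (k * z * k⁻¹))
  have huniq := fun u hu huz => unique_fixed (C w) (fun p hp q hq => h.comm_of_c hw hp hq)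
    (fun p hp hp1 q hq => by rw [← h.cent_eq hw hp hp1]; exact mem_C.2 hq) z
    ((h.index_of_b e).trans hw.symm)
    (by show (cc w).Coprime (cc z); rw [hw, e]; exact h.coprime_bc.symm)
    M hMmin hzM hync hsurj u hu huz
  -- Z* in `M`
  have hTM : IsPGroup 2 ((T : Subgroup G).subgroupOf M) :=
    T.2.comap_of_injective M.subtype Subtype.val_injective
  have hTMi : ¬ 2 ∣ ((T : Subgroup G).subgroupOf M).index := fun hd =>
    T.not_dvd_index (hd.trans (relIndex_dvd_index _ _))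
  obtain ⟨N, hN, hodd, hcomm⟩ := S0215.result (hTM.toSylow hTMi) (⟨z, hzM⟩ : M)
    (by rw [Subgroup.orderOf_mk, hz]) (show z ∈ (T : Subgroup G) from hzT) fun u hu => by
      have hu' : (u : G) * z * (u : G)⁻¹ ∈ (T : Subgroup G) := hu
      exact Subtype.ext (huniq u u.2 (mem_C.1 (hT hu')))
  haveI := hN
  have hNs : Group.IsSolvable (N.map M.subtype) := by
    haveI := S0205.result hodd
    exact solvable_of_surjective (M.subtype.subgroupMap_surjective N)
  obtain ⟨K, hK, hKs, hle⟩ := exists_solvable_normal (N := M) (M := N.map M.subtype)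
    (Subgroup.map_subtype_le _) (by
      intro n hn
      refine Subgroup.mem_normalizer_fintype fun u hu => ?_
      obtain ⟨u, hu', rfl⟩ := hu
      exact ⟨⟨n, hn⟩ * u * ⟨n, hn⟩⁻¹, hN.conj_mem u hu' _, rfl⟩) hNs
  obtain ⟨u, hu, hnc⟩ := hync
  refine hnc ?_
  have hb : z * u * z⁻¹ * u⁻¹ ∈ K := hle ⟨_, hcomm ⟨u, hu⟩, rfl⟩
  rw [h.rfree K hK hKs, Subgroup.mem_bot, mul_inv_eq_one, mul_inv_eq_iff_eq_mul] at hb
  exact hb

/-- Elements not of type `c` have odd index. -/
theorem odd_index {g : G} (hg : g ≠ 1) (hne : cc g ≠ c) : ¬ 2 ∣ (C g).index := by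
  rcases h.types g hg with e | e | e
  · obtain ⟨z, -, hza, hzi⟩ := h.exists_invol_a h2
    rwa [Wit.index_eq_of_cc (e.trans hza.symm)]
  · rw [h.index_of_b e]; exact h.not_two_dvd_c h2
  · exact absurd e hne

/-- Real elements of odd order are of type `c`. -/
theorem real_type_c {v g : G} (hv : v ≠ 1) (hvo : Odd (orderOf v)) (hg : g * v * g⁻¹ = v⁻¹) :
    cc v = c := by
  by_contra hne
  have hidx := h.odd_index h2 hv hne
  obtain ⟨k, m, hm, hord⟩ := Nat.exists_eq_two_pow_mul_odd (orderOf_pos g).ne'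
  obtain ⟨j, rfl⟩ := hm
  have hg2 : g * g ∈ C v := by
    refine mem_C.2 (mul_inv_eq_iff_eq_mul.1 ?_)
    calc g * g * v * (g * g)⁻¹ = g * (g * v * g⁻¹) * g⁻¹ := by group
      _ = g * v⁻¹ * g⁻¹ := by rw [hg]
      _ = (g * v * g⁻¹)⁻¹ := by group
      _ = v := by rw [hg, inv_inv]
  set t := g ^ (2 * j + 1)
  have htv : t * v * t⁻¹ = v⁻¹ := by
    have e : t = (g * g) ^ j * g := by rw [← pow_two, ← pow_mul, ← pow_succ]
    rw [e, show (g * g) ^ j * g * v * ((g * g) ^ j * g)⁻¹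
      = (g * g) ^ j * (g * v * g⁻¹) * ((g * g) ^ j)⁻¹ by group, hg,
      (mem_C.1 ((C v).pow_mem hg2 j)).inv_right.eq, mul_inv_cancel_right]
  have hto : orderOf t = 2 ^ k := by
    rw [orderOf_pow, hord, Nat.gcd_eq_right (Dvd.intro_left _ rfl),
      Nat.mul_div_cancel _ (by omega)]
  have htm : t ∈ C v := mem_of_normalizer (mem_normalizer_C htv)
    (by rw [hto]; exact Nat.Coprime.pow_left _ ((Nat.Prime.coprime_iff_not_dvd Nat.prime_two).2 hidx))
  rw [mul_inv_eq_iff_eq_mul.2 (mem_C.1 htm).eq] at htv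
  exact hv (S3195.eq_one_of_sq v hvo (mul_eq_one_iff_eq_inv.2 htv))

/-- An involution commutes with some conjugate of `y`. -/
theorem exists_point {i : G} (hi : orderOf i = 2) : ∃ k : G, Commute i (k * y * k⁻¹) := by
  haveI := Fact.mk Nat.prime_two
  obtain ⟨k, hk⟩ := exists_conj_mem (g := y) (u := i) (p := 2) ⟨1, by rw [hi, pow_one]⟩
    (h.index_of_b h.hb ▸ h.not_two_dvd_c h2)
  refine ⟨k⁻¹, ?_⟩
  have := (Commute.conj_iff k⁻¹).2 (mem_C.1 hk)
  simpa [mul_assoc] using this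

/-- An involution commutes with only one conjugate of `y`. -/
theorem point_unique {i : G} (hi : orderOf i = 2) {k l : G} (hk : Commute i (k * y * k⁻¹))
    (hl : Commute i (l * y * l⁻¹)) : k * y * k⁻¹ = l * y * l⁻¹ := by
  obtain ⟨v, hv1, hvo, hv⟩ := h.exists_inverted hi
  have hvc : cc v = c := h.real_type_c h2 hv1 hvo hv
  have hfree : ∀ u ∈ C v, Commute u i → u = 1 := by
    intro u hu hui
    by_contra hu1
    have : cc u = c := h.cc_of_mem hvc hu hu1
    exact h.not_two_dvd_c h2 (this ▸ hi ▸ orderOf_dvd_cc (mem_C.2 hui.symm))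
  set p := k * y * k⁻¹ with hp
  have hpb : cc p = b := (cc_conj k y).trans h.hb
  have hcop : ((C p).index).Coprime (C v).index := by
    rw [h.index_of_b hpb, h.index_of_c hvc]; exact h.coprime_bc.symm
  obtain ⟨u, hu, huw⟩ := exists_factor hcop (l * k⁻¹)
  have e : l * y * l⁻¹ = u * p * u⁻¹ := by
    have h1 := (mem_C.1 huw).eq
    calc l * y * l⁻¹ = u * ((u⁻¹ * (l * k⁻¹)) * p) * (l * k⁻¹)⁻¹ := by rw [hp]; group
      _ = u * (p * (u⁻¹ * (l * k⁻¹))) * (l * k⁻¹)⁻¹ := by rw [h1]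
      _ = u * p * u⁻¹ := by group
  have hiu : i * u * i⁻¹ = u⁻¹ := inverts_all hi hv hfree hu
  have h3 : u⁻¹ * p * u = u * p * u⁻¹ := by
    have h4 : i * (u * p * u⁻¹) * i⁻¹ = u * p * u⁻¹ := mul_inv_eq_iff_eq_mul.2 (e ▸ hl).eq
    have h5 : i * p * i⁻¹ = p := mul_inv_eq_iff_eq_mul.2 hk.eq
    rwa [show i * (u * p * u⁻¹) * i⁻¹ = (i * u * i⁻¹) * (i * p * i⁻¹) * (i * u * i⁻¹)⁻¹ by group,
      hiu, h5, inv_inv] at h4
  have hu2 : u * u ∈ C p := mem_C.2 <| by
    show u * u * p = p * (u * u)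
    calc u * u * p = u * (u * p * u⁻¹) * u := by group
      _ = u * (u⁻¹ * p * u) * u := by rw [h3]
      _ = p * (u * u) := by group
  have hu1 : u * u = 1 := orderOf_eq_one_iff.1 (Nat.eq_one_of_dvd_coprimes h.coprime_bc
    (hpb ▸ orderOf_dvd_cc hu2) (hvc ▸ orderOf_dvd_cc ((C v).mul_mem hu hu)))
  have huo : Odd (orderOf u) := by
    rw [← Nat.not_even_iff_odd, even_iff_two_dvd]
    exact fun e => h.not_two_dvd_c h2 (hvc ▸ e.trans (orderOf_dvd_cc hu))
  rw [e, S3195.eq_one_of_sq u huo hu1]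
  simp

/-- The centraliser of an involution fixes its point. -/
theorem point_cent {i g : G} (hi : orderOf i = 2) {k : G} (hk : Commute i (k * y * k⁻¹))
    (hg : Commute g i) : Commute g (k * y * k⁻¹) := by
  have h1 : Commute i ((g * k) * y * (g * k)⁻¹) := by
    have := (Commute.conj_iff g).2 hk
    rw [mul_inv_eq_iff_eq_mul.2 hg.eq] at this
    simpa [mul_assoc] using this
  have h2' := h.point_unique h2 hi hk h1
  show g * (k * y * k⁻¹) = k * y * k⁻¹ * g
  rw [← mul_inv_eq_iff_eq_mul]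
  conv_rhs => rw [h2']
  group

/-- Two involutions with different points have a product of odd order. -/
theorem odd_mul {i j k l : G} (hi : orderOf i = 2) (hj : orderOf j = 2)
    (hk : Commute i (k * y * k⁻¹)) (hl : Commute j (l * y * l⁻¹))
    (hne : k * y * k⁻¹ ≠ l * y * l⁻¹) : Odd (orderOf (i * j)) := by
  rw [← Nat.not_even_iff_odd, even_iff_two_dvd]
  intro hd
  set n := orderOf (i * j)
  set w := (i * j) ^ (n / 2)
  have hn : n ≠ 0 := (orderOf_pos _).ne'
  have hw : orderOf w = 2 := by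
    rw [orderOf_pow_of_dvd ((Nat.div_ne_zero_iff_of_dvd hd).2 ⟨hn, two_ne_zero⟩)
      (Nat.div_dvd_of_dvd hd), Nat.div_div_self hd hn]
  have ei : i * w * i⁻¹ = w := by
    rw [← conj_pow, show i * (i * j) * i⁻¹ = (i * i) * j * i⁻¹ by group,
      mul_self_of_orderOf_two hi, one_mul,
      show j * i⁻¹ = (i * j)⁻¹ by rw [mul_inv_rev, inv_of_orderOf_two hj], inv_pow,
      inv_of_orderOf_two hw]
  have ej : j * w * j⁻¹ = w := by
    rw [← conj_pow, show j * (i * j) * j⁻¹ = j * i by group,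
      show j * i = (i * j)⁻¹ by rw [mul_inv_rev, inv_of_orderOf_two hj, inv_of_orderOf_two hi],
      inv_pow, inv_of_orderOf_two hw]
  obtain ⟨q, hq⟩ := h.exists_point h2 hw
  have hci := h.point_cent h2 hw hq (g := i) (mul_inv_eq_iff_eq_mul.1 ei)
  have hcj := h.point_cent h2 hw hq (g := j) (mul_inv_eq_iff_eq_mul.1 ej)
  exact hne ((h.point_unique h2 hi hk hci).trans (h.point_unique h2 hj hcj hl))

omit h h2 in
/-- Involutions with product of odd order are swapped by an involution inverting both. -/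
theorem exists_swap {i j : G} (hi : orderOf i = 2) (hj : orderOf j = 2) (hne : i ≠ j)
    (hodd : Odd (orderOf (i * j))) :
    ∃ e : G, orderOf e = 2 ∧ e * i * e⁻¹ = j ∧ e ∈ Subgroup.closure ({i, j} : Set G) := by
  obtain ⟨s, hs⟩ := hodd
  have hii := mul_self_of_orderOf_two hi
  set r := i * j with hr
  have hir : i * r * i⁻¹ = r⁻¹ := by
    rw [hr, mul_inv_rev, inv_of_orderOf_two hi, inv_of_orderOf_two hj, ← mul_assoc, hii, one_mul]
  have hirs : i * r ^ (s + 1) * i⁻¹ = (r ^ (s + 1))⁻¹ := by rw [← conj_pow, hir, inv_pow]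
  set e := i * r ^ (s + 1)
  have e1 : e * i * e⁻¹ = j := by
    have h1 : r ^ (s + 1) * r ^ (s + 1) = r := by
      rw [← pow_add, show s + 1 + (s + 1) = orderOf r + 1 by omega, pow_succ, pow_orderOf_eq_one,
        one_mul]
    calc e * i * e⁻¹ = i * (r ^ (s + 1) * (i * (r ^ (s + 1))⁻¹ * i⁻¹)) := by
          simp only [e]; group
      _ = i * (r ^ (s + 1) * r ^ (s + 1)) := by
          rw [show i * (r ^ (s + 1))⁻¹ * i⁻¹ = (i * r ^ (s + 1) * i⁻¹)⁻¹ by group, hirs, inv_inv]
      _ = j := by rw [h1, hr, ← mul_assoc, hii, one_mul]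
  have hij : ∀ u ∈ ({i, j} : Set G), u ∈ Subgroup.closure ({i, j} : Set G) :=
    fun u hu => Subgroup.subset_closure hu
  refine ⟨e, orderOf_eq_prime ?_ (fun he => hne (by rw [← e1, he]; group)), e1,
    mul_mem (hij i (by simp)) (pow_mem (mul_mem (hij i (by simp)) (hij j (by simp))) _)⟩
  rw [pow_two]
  calc e * e = (i * r ^ (s + 1) * i⁻¹) * (i * i) * r ^ (s + 1) := by simp only [e]; group
    _ = 1 := by rw [hirs, hii]; group

/-- The contradiction. -/
theorem false_of_two_dvd_b : False := by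
  haveI := Fact.mk Nat.prime_two
  obtain ⟨i, hi, hia, -⟩ := h.exists_invol_a h2
  have hi1 : i ≠ 1 := fun e => by simp [e] at hi
  have hic : cc i ≠ c := fun e => h.not_two_dvd_c h2 (e ▸ hi ▸ orderOf_dvd_cc_self i)
  obtain ⟨g, hg, hgC⟩ := h.exists_conj_ne h2 hi (h.odd_index h2 hi1 hic)
  set i' := g * i * g⁻¹ with hi'
  have hconj : ∀ u : G, orderOf (u * i * u⁻¹) = 2 := fun u => by
    rw [← MulAut.conj_apply, MulEquiv.orderOf_eq, hi]
  have hi'o : orderOf i' = 2 := hconj g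
  obtain ⟨k, hk⟩ := h.exists_point h2 hi
  set p := k * y * k⁻¹ with hp
  have hpb : cc p = b := (cc_conj k y).trans h.hb
  have hk' : Commute i' p := h.point_cent h2 hi hk (mem_C.1 hgC)
  obtain ⟨w, hw⟩ : ∃ w : G, w * i * w⁻¹ ∉ C p := by
    by_contra hall
    push Not at hall
    have hle : Subgroup.normalClosure ({i} : Set G) ≤ C p := by
      rw [Subgroup.normalClosure, Subgroup.closure_le]
      intro v hv
      obtain ⟨i₀, hi₀, hconj'⟩ := Group.mem_conjugatesOfSet_iff.1 hv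
      rw [Set.mem_singleton_iff] at hi₀
      subst hi₀
      obtain ⟨u, rfl⟩ := isConj_iff.1 hconj'
      exact hall u
    haveI : (Subgroup.normalClosure ({i} : Set G)).Normal := Subgroup.normalClosure_normal
    have hpL : p ∈ Subgroup.centralizer (Subgroup.normalClosure ({i} : Set G) : Set G) :=
      Subgroup.mem_centralizer_iff.2 fun u hu => (mem_C.1 (hle hu)).eq
    obtain ⟨e, r, hr, hpe, -⟩ := exists_pow_prime (h.ne_one_b hpb)
    exact (h.toWit.tri.same_type h.rfree (Subgroup.normalClosure ({i} : Set G))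
      (Subgroup.centralizer (Subgroup.normalClosure ({i} : Set G) : Set G))
      (fun u hu v hv => Subgroup.mem_centralizer_iff.1 hv u hu)
      (Subgroup.subset_normalClosure (Set.mem_singleton i)) Nat.prime_two hi
      ((Subgroup.centralizer (Subgroup.normalClosure ({i} : Set G) : Set G)).pow_mem hpL e) hr
      hpe).1 hia
  set j := w * i * w⁻¹ with hj
  have hjo : orderOf j = 2 := hconj w
  obtain ⟨l, hl⟩ := h.exists_point h2 hjo
  set q := l * y * l⁻¹ with hq
  have hne : p ≠ q := fun e => hw (mem_C.2 (e ▸ hl))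
  obtain ⟨e, heo, he, -⟩ := exists_swap hi hjo (fun e => hw (mem_C.2 (e ▸ hk)))
    (h.odd_mul h2 hi hjo hk hl hne)
  obtain ⟨e', he'o, he', -⟩ := exists_swap hi'o hjo (fun e => hw (mem_C.2 (e ▸ hk')))
    (h.odd_mul h2 hi'o hjo hk' hl hne)
  -- `e` and `e'` both move `p` to `q`
  have hmove : ∀ u s : G, orderOf s = 2 → Commute u p → s * u * s⁻¹ = j → s * p * s⁻¹ = q := by
    intro u s _ hu hs
    have h1 : Commute j ((s * k) * y * (s * k)⁻¹) := by
      have := (Commute.conj_iff s).2 hu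
      rw [hs, hp] at this
      simpa [mul_assoc] using this
    rw [hq, ← h.point_unique h2 hjo h1 hl, hp]
    group
  have hep : e * p * e⁻¹ = q := hmove i e heo hk he
  have he'p : e' * p * e'⁻¹ = q := hmove i' e' he'o hk' he'
  have heq : e * q * e⁻¹ = p := by
    rw [← hep, inv_of_orderOf_two heo,
      show e * (e * p * e) * e = (e * e) * p * (e * e) by group, mul_self_of_orderOf_two heo,
      one_mul, mul_one]
  have he'q : e' * q * e'⁻¹ = p := by
    rw [← he'p, inv_of_orderOf_two he'o,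
      show e' * (e' * p * e') * e' = (e' * e') * p * (e' * e') by group,
      mul_self_of_orderOf_two he'o, one_mul, mul_one]
  set d := e * e' with hd
  have hdp : Commute d p := mul_inv_eq_iff_eq_mul.1 <| by
    rw [show d * p * d⁻¹ = e * (e' * p * e'⁻¹) * e⁻¹ by simp only [d]; group, he'p, heq]
  have hdq : Commute d q := mul_inv_eq_iff_eq_mul.1 <| by
    rw [show d * q * d⁻¹ = e * (e' * q * e'⁻¹) * e⁻¹ by simp only [d]; group, he'q, hep]
  have hd1 : d ≠ 1 := fun h1 => by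
    have : e = e' := by
      rw [← inv_of_orderOf_two he'o]; exact eq_inv_of_mul_eq_one_left h1
    subst this
    exact hg (MulAut.conj e |>.injective (he'.trans he.symm))
  have hdo : Odd (orderOf d) := by
    rw [← Nat.not_even_iff_odd, even_iff_two_dvd]
    intro hdd
    have hn : orderOf d ≠ 0 := (orderOf_pos _).ne'
    have hs : orderOf (d ^ (orderOf d / 2)) = 2 := by
      rw [orderOf_pow_of_dvd ((Nat.div_ne_zero_iff_of_dvd hdd).2 ⟨hn, two_ne_zero⟩)
        (Nat.div_dvd_of_dvd hdd), Nat.div_div_self hdd hn]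
    exact hne (h.point_unique h2 hs (hdp.pow_left _) (hdq.pow_left _))
  have hinv : e * d * e⁻¹ = d⁻¹ := by
    rw [hd, mul_inv_rev, inv_of_orderOf_two heo, inv_of_orderOf_two he'o, ← mul_assoc,
      mul_self_of_orderOf_two heo, one_mul]
  exact h.not_commute hpb (h.real_type_c h2 hd1 hdo hinv) hdp.symm

end Ctx

end Cfsg.Agent.H63.RankThree
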