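import Cfsg.Agent.H63.RankThree.Inverted

/-!
# The strict-inclusion case with involutions of type `c`
-/

set_option autoImplicit false

namespace Cfsg.Agent.H63.RankThree

universe u

variable {G : Type u} [Group G] [Finite G]

namespace Ctx

variable {x y : G} {a b c : ℕ} (h : Ctx G x y a b c)
include h

theorem cc_dvd_b {g : G} (hg : g ≠ 1) (hne : cc g ≠ c) : cc g ∣ b := by
  rcases h.types g hg with e | e | e
  · exact e ▸ h.a_dvd_b
  · exact e ▸ dvd_rfl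
  · exact absurd e hne

/-- The involutions are not of type `c`. -/
theorem false_of_two_dvd_c (h2 : 2 ∣ c) : False := by
  haveI := Fact.mk Nat.prime_two
  obtain ⟨t, ht⟩ := exists_prime_orderOf_dvd_card' (G := G) 2
    (h2.trans (h.card_eq ▸ dvd_mul_left c b))
  have ht1 : t ≠ 1 := fun e => by simp [e] at ht
  have htc : cc t = c := h.type_c Nat.prime_two h2 ht1 (ht ▸ orderOf_dvd_cc_self t)
  obtain ⟨v, hv1, hvo, hv⟩ := h.exists_inverted ht
  obtain ⟨k, r, hr, hor, hrd⟩ := exists_pow_prime hv1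
  set v₀ := v ^ k
  have hv₀1 : v₀ ≠ 1 := fun e => hr.one_lt.ne' (by rw [← hor, e, orderOf_one])
  have hv₀ : t * v₀ * t⁻¹ = v₀⁻¹ := by rw [← conj_pow, hv, inv_pow]
  have hv₀o : Odd (orderOf v₀) := hor ▸ hvo.of_dvd_nat hrd
  by_cases hrc : r ∣ c
  · have hvc : cc v₀ = c := h.type_c hr hrc hv₀1 (hor ▸ orderOf_dvd_cc_self v₀)
    have hb2 : ¬ 2 ∣ b := fun e =>
      Nat.prime_two.not_dvd_one (h.coprime_bc ▸ Nat.dvd_gcd e h2)
    have htm : t ∈ C v₀ := mem_of_normalizer (mem_normalizer_C hv₀)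
      (by rw [ht, h.index_of_c hvc]; exact (Nat.Prime.coprime_iff_not_dvd Nat.prime_two).2 hb2)
    rw [mul_inv_eq_iff_eq_mul.2 (mem_C.1 htm).eq] at hv₀
    exact hv₀1 (S3195.eq_one_of_sq v₀ hv₀o (mul_eq_one_iff_eq_inv.2 hv₀))
  have hvc : cc v₀ ≠ c := fun e => hrc (e ▸ hor ▸ orderOf_dvd_cc_self v₀)
  -- `t` inverts every centraliser whose order divides `b`
  have hinv : ∀ w : G, cc w ∣ b → t * w * t⁻¹ = w⁻¹ → ∀ u ∈ C w, t * u * t⁻¹ = u⁻¹ := by
    intro w hw htw u hu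
    refine inverts_all ht htw (fun g hg hgt => ?_) hu
    exact orderOf_eq_one_iff.1 (Nat.eq_one_of_dvd_coprimes h.coprime_bc
      ((orderOf_dvd_cc hg).trans hw) (htc ▸ orderOf_dvd_cc (mem_C.2 hgt)))
  have hU := hinv v₀ (h.cc_dvd_b hv₀1 hvc) hv₀
  have habU : ∀ p ∈ C v₀, ∀ q ∈ C v₀, p * q = q * p := fun p hp q hq => comm_of_inverts hU hp hq
  by_cases hex : ∃ w ∈ C v₀, w ≠ 1 ∧ cc w = b
  · obtain ⟨w, hwU, -, hwb⟩ := hex
    have hW := hinv w (hwb ▸ dvd_rfl) (hU w hwU)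
    haveI := Fact.mk h.yprime
    have hyc : ¬ orderOf y ∣ (C w).index := by
      rw [h.index_of_b hwb]
      exact fun e => h.yprime.not_dvd_one
        (h.coprime_bc ▸ Nat.dvd_gcd (h.hb ▸ orderOf_dvd_cc_self y) e)
    obtain ⟨l, hl⟩ := exists_conj_mem (g := w) (u := y) ⟨1, (pow_one _).symm⟩ hyc
    have hle : C w ≤ C (l * y * l⁻¹) := fun g hg => mem_C.2 (comm_of_inverts hW hg hl)
    have heq := eq_C_of_le hle (by rw [cc_conj, h.hb, hwb])
    have hcomm : ∀ p ∈ C y, ∀ q ∈ C y, p * q = q * p := by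
      intro p hp q hq
      have hp' : l * p * l⁻¹ ∈ C w := heq ▸ conj_mem_C_conj l hp
      have hq' : l * q * l⁻¹ ∈ C w := heq ▸ conj_mem_C_conj l hq
      have e : (l * p * l⁻¹) * (l * q * l⁻¹) = (l * q * l⁻¹) * (l * p * l⁻¹) :=
        comm_of_inverts hW hp' hq'
      refine (MulAut.conj l).injective ?_
      simpa only [map_mul, MulAut.conj_apply] using e
    exact h.hlt.not_ge fun g hg => mem_C.2 (hcomm g hg x (h.hlt.le (self_mem_C x)))
  push Not at hex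
  have hcoU : (cc v₀).Coprime c := h.coprime_bc.coprime_dvd_left (h.cc_dvd_b hv₀1 hvc)
  have hall : ∀ w ∈ C v₀, w ≠ 1 → cc w = a := by
    intro w hw hw1
    rcases h.types w hw1 with e | e | e
    · exact e
    · exact absurd e (hex w hw hw1)
    · exfalso
      exact hw1 (orderOf_eq_one_iff.1 (Nat.eq_one_of_dvd_coprimes hcoU (orderOf_dvd_cc hw)
        (e ▸ orderOf_dvd_cc_self w)))
  have hva : cc v₀ = a := hall v₀ (self_mem_C v₀) hv₀1
  have hsame : ∀ w ∈ C v₀, w ≠ 1 → C w = C v₀ := fun w hw hw1 =>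
    (eq_C_of_le (fun g hg => mem_C.2 (habU g hg w hw)) (by rw [hall w hw hw1, hva])).symm
  haveI := Fact.mk hr
  obtain ⟨S, hS⟩ := (IsPGroup.of_card (G := Subgroup.zpowers v₀) (p := r) (n := 1)
    (by rw [Nat.card_zpowers, hor, pow_one])).exists_le_sylow
  obtain ⟨z, hz1, -, hle, hzi, -⟩ := exists_central S
    (hor ▸ orderOf_dvd_natCard v₀)
  have hzU : z ∈ C v₀ := mem_C.2 (mem_C.1 (hle (hS (Subgroup.mem_zpowers v₀)))).symm
  have hxi : ¬ r ∣ (C x).index := by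
    rw [← Wit.index_eq_of_cc ((hall z hzU hz1).trans h.ha.symm)]; exact hzi
  obtain ⟨l, hl⟩ := exists_conj_mem (g := x) (u := v₀) ⟨1, by rw [hor, pow_one]⟩ hxi
  set x' := l⁻¹ * x * l with hx'
  have hxU : x' ∈ C v₀ := by
    have := conj_mem_C_conj l⁻¹ (mem_C.2 (mem_C.1 hl).symm)
    simpa [hx', mul_assoc] using this
  have hx'1 : x' ≠ 1 := fun e => h.hx (by
    have := conj_eq_one_iff (a := l⁻¹) (b := x)
    simp only [inv_inv] at this
    exact this.1 e)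
  have hyU : l⁻¹ * y * l ∈ C v₀ := by
    rw [← hsame x' hxU hx'1]
    have := conj_mem_C_conj l⁻¹ (mem_C.2 (mem_C.1 (h.hlt.le (self_mem_C x))).symm : y ∈ C x)
    simpa [hx', mul_assoc] using this
  have hy'1 : l⁻¹ * y * l ≠ 1 := fun e => h.hy (by
    have := conj_eq_one_iff (a := l⁻¹) (b := y)
    simp only [inv_inv] at this
    exact this.1 e)
  have := hall _ hyU hy'1
  rw [show l⁻¹ * y * l = l⁻¹ * y * l⁻¹⁻¹ by rw [inv_inv], cc_conj, h.hb] at this
  exact h.a_lt_b.ne this.symm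

end Ctx

end Cfsg.Agent.H63.RankThree
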