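import Cfsg.Agent.H63.RankThree.Basic
import Cfsg.Agent.H44.ClassSizes.CC

/-!
# Centre-free groups without strict centraliser inclusions have abelian centralisers
(for three nontrivial class sizes)
-/

set_option autoImplicit false

namespace Cfsg.Agent.H63.RankThree

universe u

variable {G : Type u} [Group G] [Finite G]

/-- A nontrivial element of prime order whose centraliser is not a `p`-group has abelian
centraliser, equal to that of each of its nontrivial elements. -/
theorem mixed (hF : ∀ x y : G, x ≠ 1 → y ≠ 1 → C x ≤ C y → C x = C y) {v : G} {p : ℕ}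
    (hp : p.Prime) (hv : orderOf v = p) (hnp : ¬ IsPGroup p (C v)) :
    ∀ g ∈ C v, g ≠ 1 → C g = C v := by
  have hv1 : v ≠ 1 := fun e => hp.one_lt.ne' (by rw [← hv, e, orderOf_one])
  have key : ∀ (u w : G) (q r : ℕ), q.Prime → r.Prime → orderOf u = q → orderOf w = r → q ≠ r →
      Commute u w → C u = C w := by
    intro u w q r hq hr hu hw hne huw
    have hco : (orderOf u).Coprime (orderOf w) := by
      rw [hu, hw]; exact (Nat.coprime_primes hq hr).2 hne
    have hu1 : u ≠ 1 := fun e => hq.one_lt.ne' (by rw [← hu, e, orderOf_one])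
    have hw1 : w ≠ 1 := fun e => hr.one_lt.ne' (by rw [← hw, e, orderOf_one])
    have huv1 := mul_ne_one_of_coprime hu1 hco
    have h1 := hF _ _ huv1 hu1 (C_mul_le huw hco)
    have h2 := hF _ _ huv1 hw1 (by rw [huw.eq]; exact C_mul_le huw.symm hco.symm)
    exact h1.symm.trans h2
  obtain ⟨w, hw, r, hr, hwr, hne⟩ : ∃ w ∈ C v, ∃ r : ℕ, r.Prime ∧ orderOf w = r ∧ r ≠ p := by
    by_contra hcon
    push Not at hcon
    refine hnp fun g => ?_
    refine ⟨(orderOf g).primeFactorsList.length, orderOf_dvd_iff_pow_eq_one.1 (dvd_of_eq ?_)⟩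
    refine Nat.eq_prime_pow_of_unique_prime_dvd (orderOf_pos g).ne' fun {d} hd hdd => ?_
    refine hcon ((g : G) ^ (orderOf g / d)) ((C v).pow_mem g.2 _) d hd ?_
    have hdd' : d ∣ orderOf (g : G) := by rwa [Subgroup.orderOf_coe]
    rw [← Subgroup.orderOf_coe g, orderOf_pow_of_dvd
        ((Nat.div_ne_zero_iff_of_dvd hdd').2 ⟨(orderOf_pos _).ne', hd.ne_zero⟩)
        (Nat.div_dvd_of_dvd hdd'), Nat.div_div_self hdd' (orderOf_pos _).ne']
  have hvw : C v = C w := key v w p r hp hr hv hwr hne.symm (mem_C.1 hw).symm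
  intro g hg hg1
  obtain ⟨k, q, hq, hgq, -⟩ := exists_pow_prime hg1
  have hgk1 : g ^ k ≠ 1 := fun e => hq.one_lt.ne' (by rw [← hgq, e, orderOf_one])
  rw [hF g _ hg1 hgk1 (C_le_pow g k)]
  have hmem : g ^ k ∈ C v := (C v).pow_mem hg k
  by_cases hqp : q = p
  · rw [hvw] at hmem ⊢
    exact key _ _ q r hq hr hgq hwr (hqp ▸ hne.symm) (mem_C.1 hmem)
  · exact key _ _ q p hq hp hgq hv hqp (mem_C.1 hmem)

/-- All centralisers are abelian. -/
theorem abelian_of_F (hF : ∀ x y : G, x ≠ 1 → y ≠ 1 → C x ≤ C y → C x = C y)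
    {x : G} (hx : x ≠ 1) : ∀ g ∈ C x, ∀ g' ∈ C x, g * g' = g' * g := by
  obtain ⟨k, p, hp, hv, -⟩ := exists_pow_prime hx
  set v := x ^ k
  have hv1 : v ≠ 1 := fun e => hp.one_lt.ne' (by rw [← hv, e, orderOf_one])
  rw [hF x v hx hv1 (C_le_pow x k)]
  by_cases hnp : ¬ IsPGroup p (C v)
  · intro g hg g' hg'
    rcases eq_or_ne g' 1 with rfl | h1
    · simp
    · exact (mem_C.1 (mixed hF hp hv hnp g' hg' h1 ▸ hg)).eq
  push Not at hnp
  haveI := Fact.mk hp
  obtain ⟨S, hS⟩ := hnp.exists_le_sylow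
  obtain ⟨z, hz1, hzS, hle, -, hzo⟩ := exists_central S (hv ▸ orderOf_dvd_natCard v)
  have e := hF v z hv1 hz1 (hS.trans hle)
  have hCS : C v = (S : Subgroup G) := le_antisymm hS (e ▸ hle)
  -- all `p`-elements have Sylow centralisers
  have hall : ∀ u : G, u ≠ 1 → (∃ k : ℕ, orderOf u = p ^ k) →
      Nat.card (C u) = Nat.card (S : Subgroup G) := by
    intro u hu1 hu
    obtain ⟨n, hn⟩ := hu
    obtain ⟨j, q, hq, huq, hqd⟩ := exists_pow_prime hu1
    obtain rfl : q = p := (Nat.prime_dvd_prime_iff_eq hq hp).1 (hq.dvd_of_dvd_pow (hn ▸ hqd))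
    have huj1 : u ^ j ≠ 1 := fun e => hq.one_lt.ne' (by rw [← huq, e, orderOf_one])
    rw [hF u _ hu1 huj1 (C_le_pow u j)]
    obtain ⟨T, hT⟩ := (IsPGroup.of_card (G := Subgroup.zpowers (u ^ j)) (p := q) (n := 1)
      (by rw [Nat.card_zpowers, huq, pow_one])).exists_le_sylow
    obtain ⟨w, hw1, hwT, hleT, -, -⟩ := exists_central T (hv ▸ orderOf_dvd_natCard v)
    obtain ⟨l, hl⟩ := MulAction.exists_smul_eq G S T
    have hwz : cc w = Nat.card (S : Subgroup G) := by
      have hz' : l * z * l⁻¹ ∈ (T : Subgroup G) := by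
        rw [← hl, Sylow.coe_subgroup_smul]
        exact Subgroup.smul_mem_pointwise_smul z (MulAut.conj l) _ hzS
      have h1 : l * z * l⁻¹ ≠ 1 := fun e => hz1 (conj_eq_one_iff.1 e)
      have hlT : (T : Subgroup G) ≤ C (l * z * l⁻¹) := by
        rw [C_conj, ← e, hCS, ← hl, Sylow.coe_subgroup_smul]
        exact le_of_eq rfl
      have hCT : C (l * z * l⁻¹) = (T : Subgroup G) :=
        (Subgroup.eq_of_le_of_card_ge hlT (by
          rw [← cc, cc_conj, cc, ← e, hCS, Sylow.card_eq_multiplicity,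
            Sylow.card_eq_multiplicity])).symm
      have := hF _ _ h1 hw1 (hCT ▸ hleT)
      rw [cc, ← this, hCT, Sylow.card_eq_multiplicity, Sylow.card_eq_multiplicity]
    have hwu : w ∈ C (u ^ j) := mem_C.2 (mem_C.1 (hleT (hT (Subgroup.mem_zpowers _)))).symm
    by_cases hP : IsPGroup q (C (u ^ j))
    · obtain ⟨R, hR⟩ := hP.exists_le_sylow
      obtain ⟨r, hr1, -, hleR, -, -⟩ := exists_central R (hv ▸ orderOf_dvd_natCard v)
      have e2 := hF _ _ huj1 hr1 (hR.trans hleR)
      have : C (u ^ j) = (R : Subgroup G) := le_antisymm hR (e2 ▸ hleR)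
      rw [this, Sylow.card_eq_multiplicity, Sylow.card_eq_multiplicity]
    · rw [← mixed hF hq huq hP w hwu hw1]; exact hwz
  obtain ⟨f, hf⟩ := IsPGroup.iff_card.1 S.2
  have hcc : H44.ClassSizes.CC G p (p ^ f) (S : Subgroup G).index :=
    { prime := hp
      pow := ⟨f, Nat.pos_of_ne_zero fun h0 => S.ne_bot_of_dvd_card (hv ▸ orderOf_dvd_natCard v)
          (Subgroup.card_eq_one.1 (by rw [hf, h0, pow_zero])), rfl⟩
      card := by rw [← hf, (S : Subgroup G).card_mul_index]
      cop := S.not_dvd_index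
      cent := fun u hu hk => (hall u hu hk).trans hf }
  rw [hCS]
  exact fun g hg g' hg' => hcc.sylow_comm S g hg g' hg'

end Cfsg.Agent.H63.RankThree
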