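import Cfsg.Agent.H26.CharPerm
import Cfsg.Agent.H25.CharInd
import Cfsg.Agent.H25.CharCoprime
import Cfsg.Agent.H25.CharValues
import Cfsg.Agent.H27.Dual

/-!
# A regular self-centralising abelian subgroup pins down the fixed points of a central element
of a point stabiliser

`A` abelian with `C(a) = A` for `a ≠ 1`, `|G : C(y)| = |A|`, `gcd(|A|, |C(y)|) = 1`, `G` simple:
then `y` is the only conjugate of `y` in `C(y)`.
-/

set_option autoImplicit false

namespace Cfsg.Agent.H63.RankThree

open scoped ComplexConjugate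

universe u

variable {G : Type u} [Group G]

section Conj

variable (A : Subgroup G)

/-- Conjugation of `A` by an element of its normaliser. -/
def cjHom (x : Subgroup.normalizer (A : Set G)) : ↥A →* ↥A where
  toFun a := ⟨(x : G)⁻¹ * a * x, by
    have h := (Subgroup.normalizer (A : Set G)).inv_mem x.2
    have := (Subgroup.mem_normalizer_iff.mp h (a : G)).mp a.2
    simpa using this⟩
  map_one' := Subtype.ext (by simp)
  map_mul' a b := Subtype.ext (by simp [mul_assoc])

theorem cjHom_val (x : Subgroup.normalizer (A : Set G)) (a : A) :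
    (cjHom A x a : G) = (x : G)⁻¹ * a * x := rfl

theorem cjHom_injective (x : Subgroup.normalizer (A : Set G)) :
    Function.Injective (cjHom A x) := fun a b h => Subtype.ext (by
  have := congrArg Subtype.val h
  simpa [cjHom_val] using this)

theorem cjHom_mul (x y : Subgroup.normalizer (A : Set G)) :
    cjHom A (x * y) = (cjHom A y).comp (cjHom A x) :=
  MonoidHom.ext fun a => Subtype.ext (by simp [cjHom_val, mul_assoc])

theorem cjHom_one : cjHom A 1 = MonoidHom.id _ :=
  MonoidHom.ext fun a => Subtype.ext (by simp [cjHom_val])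

/-- A linear character as a function. -/
noncomputable def lin (l : ↥A →* ℂˣ) : ↥A → ℂ := fun a => (l a : ℂ)

theorem lin_injective : Function.Injective (lin A) := fun l m h =>
  MonoidHom.ext fun a => Units.ext (congrFun h a)

theorem lin_comp_cjHom (l : ↥A →* ℂˣ) (x : Subgroup.normalizer (A : Set G)) :
    lin A (l.comp (cjHom A x)) = fun a => lin A l (cjHom A x a) := rfl

end Conj

section Count

variable [Fintype G] (A : Subgroup G) [Fintype A]

open scoped Classical in
theorem classInner_lin (l m : ↥A →* ℂˣ) :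
    Cfsg.classInner (lin A l) (lin A m) = if l = m then 1 else 0 := by
  have h := H26.classInner_irr (⟨lin A l, H26.isIrrCharacter_hom l⟩ : Cfsg.IrrCharacter ↥A)
    ⟨lin A m, H26.isIrrCharacter_hom m⟩
  rw [h]
  refine if_congr ⟨fun e => lin_injective A (congrArg Subtype.val e), fun e => ?_⟩ rfl rfl
  subst e; rfl

variable (hC : ∀ a ∈ A, a ≠ 1 → ∀ g : G, g * a = a * g → g ∈ A)
variable (hab : ∀ a ∈ A, ∀ b ∈ A, a * b = b * a)
include hC hab

omit [Fintype G] [Fintype A] in
/-- `A` is a trivial intersection subgroup. -/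
theorem mem_normalizer_of_conj_mem {a x : G} (ha : a ∈ A) (ha1 : a ≠ 1)
    (hx : x⁻¹ * a * x ∈ A) [Finite A] : x ∈ Subgroup.normalizer (A : Set G) := by
  refine Subgroup.mem_normalizer_fintype fun b hb => ?_
  refine hC a ha ha1 _ ?_
  have h1 := hab _ hx _ hb
  calc x * b * x⁻¹ * a = x * (b * (x⁻¹ * a * x)) * x⁻¹ := by group
    _ = x * ((x⁻¹ * a * x) * b) * x⁻¹ := by rw [h1]
    _ = a * (x * b * x⁻¹) := by group

omit [Fintype G] in
theorem indFun_apply_mem [Fintype G] [Fintype (Subgroup.normalizer (A : Set G))]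
    (θ : ↥A → ℂ) (h1 : θ 1 = 0) (a : A) :
    Cfsg.indFun A θ (a : G) =
      (Nat.card A : ℂ)⁻¹ * ∑ x : Subgroup.normalizer (A : Set G), θ (cjHom A x a) := by
  classical
  by_cases ha : a = 1
  · subst ha
    rw [OneMemClass.coe_one, H25.indFun_one, h1, mul_zero]
    simp [map_one, h1]
  rw [H25.indFun_apply]
  congr 1
  rw [← Finset.sum_filter_add_sum_filter_not Finset.univ (· ∈ Subgroup.normalizer (A : Set G)),
    Finset.sum_eq_zero
      (s := Finset.univ.filter (¬ · ∈ Subgroup.normalizer (A : Set G))) (fun x hx => ?_), add_zero,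
    Finset.sum_subtype (p := (· ∈ Subgroup.normalizer (A : Set G))) _ (by simp)]
  · refine Finset.sum_congr rfl fun x _ => ?_
    rw [show (x : G)⁻¹ * a * x = (cjHom A x a : G) from rfl, H25.extendByZero_apply_coe]
  · refine H25.extendByZero_of_notMem _ _ fun h => (Finset.mem_filter.mp hx).2 ?_
    exact mem_normalizer_of_conj_mem A hC hab a.2 (fun e => ha (Subtype.ext e)) h

omit [Fintype G] in
/-- Only elements of `A` fix a nontrivial linear character. -/
theorem mem_of_fixed {l : ↥A →* ℂˣ} (hl : l ≠ 1) (x : Subgroup.normalizer (A : Set G))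
    (hx : l.comp (cjHom A x) = l) : (x : G) ∈ A := by
  by_contra hxA
  let f : ↥A →* ↥A :=
    { toFun := fun a => a⁻¹ * cjHom A x a
      map_one' := by simp
      map_mul' := fun a b => by
        have hc : ∀ u v : ↥A, u * v = v * u := fun u v => Subtype.ext (hab _ u.2 _ v.2)
        rw [map_mul, mul_inv_rev, hc b⁻¹ a⁻¹, mul_assoc a⁻¹, ← mul_assoc b⁻¹, hc b⁻¹ (cjHom A x a),
          mul_assoc (cjHom A x a), ← mul_assoc] }
  have hinj : Function.Injective f := by
    rw [injective_iff_map_eq_one]
    intro a ha
    by_contra ha1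
    refine hxA (hC a a.2 (fun e => ha1 (Subtype.ext e)) _ ?_)
    have h2 : (cjHom A x a : G) = a := congrArg Subtype.val (inv_mul_eq_one.mp ha).symm
    rw [cjHom_val] at h2
    calc (x : G) * a = x * ((x : G)⁻¹ * a * x) := by rw [h2]
      _ = a * x := by group
  apply hl
  refine MonoidHom.ext fun b => ?_
  obtain ⟨a, rfl⟩ := (Finite.injective_iff_surjective.mp hinj) b
  have h3 : l (cjHom A x a) = l a := congrArg (fun φ : ↥A →* ℂˣ => φ a) hx
  show l (a⁻¹ * cjHom A x a) = 1
  rw [map_mul, map_inv, h3, inv_mul_cancel]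

omit [Fintype G] in
/-- The stabiliser count for a nontrivial linear character. -/
theorem card_stab [Fintype (Subgroup.normalizer (A : Set G))]
    [DecidableEq (↥A →* ℂˣ)] {l : ↥A →* ℂˣ} (hl : l ≠ 1)
    (x₀ : Subgroup.normalizer (A : Set G)) :
    (Finset.univ.filter fun x => l.comp (cjHom A x) = l.comp (cjHom A x₀)).card = Nat.card A := by
  classical
  have key : ∀ x : Subgroup.normalizer (A : Set G),
      l.comp (cjHom A x) = l.comp (cjHom A x₀) ↔ ((x₀⁻¹ * x : Subgroup.normalizer (A : Set G)) : G) ∈ A := by
    intro x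
    constructor
    · intro h
      refine mem_of_fixed A hC hab hl _ ?_
      rw [cjHom_mul, ← MonoidHom.comp_assoc, h, MonoidHom.comp_assoc, ← cjHom_mul,
        inv_mul_cancel, cjHom_one, MonoidHom.comp_id]
    · intro h
      have e : cjHom A (x₀⁻¹ * x) = MonoidHom.id _ := MonoidHom.ext fun a => Subtype.ext (by
        rw [cjHom_val, MonoidHom.id_apply, mul_assoc, hab _ a.2 _ h, inv_mul_cancel_left])
      conv_lhs => rw [show x = x₀ * (x₀⁻¹ * x) by group, cjHom_mul, e, MonoidHom.id_comp]
  rw [← Fintype.card_subtype, ← Nat.card_eq_fintype_card]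
  exact Nat.card_congr
    { toFun := fun x => ⟨_, (key x.1).mp x.2⟩
      invFun := fun a => ⟨x₀ * ⟨a, Subgroup.le_normalizer a.2⟩, (key _).mpr (by simp)⟩
      left_inv := fun x => by ext; simp
      right_inv := fun a => by ext; simp }

end Count

open scoped Classical in
/-- An element `y` of a minimal normal subgroup `N` fixes as many points of `G ⧸ C y` as `N` has
orbits. -/
theorem card_fixed_eq_orbits [Finite G] (A : Subgroup G)
    (hab : ∀ a ∈ A, ∀ b ∈ A, a * b = b * a)
    (hC : ∀ a ∈ A, a ≠ 1 → ∀ g : G, g * a = a * g → g ∈ A)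
    (y : G) (hidx : (Subgroup.centralizer ({y} : Set G)).index = Nat.card A)
    (hcop : (Nat.card A).Coprime (Nat.card (Subgroup.centralizer ({y} : Set G))))
    (M : Subgroup G) [hM : M.Normal] (hMmin : ∀ X : Subgroup G, X.Normal → X ≤ M → X = ⊥ ∨ X = M)
    (hyM : y ∈ M) (hync : ∃ u ∈ M, ¬ Commute y u) :
    Nat.card (MulAction.fixedBy (G ⧸ Subgroup.centralizer ({y} : Set G)) y) =
      Nat.card (Quotient (MulAction.orbitRel M (G ⧸ Subgroup.centralizer ({y} : Set G)))) := by
  haveI := Fintype.ofFinite G
  haveI := Fintype.ofFinite A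
  haveI : IsMulCommutative ↥A := ⟨⟨fun a b => Subtype.ext (hab _ a.2 _ b.2)⟩⟩
  set N := Subgroup.normalizer (A : Set G) with hN
  haveI := Fintype.ofFinite N
  set B := Subgroup.centralizer ({y} : Set G) with hB
  set n := Nat.card A with hn
  have hn0 : (n : ℂ) ≠ 0 := Nat.cast_ne_zero.mpr Nat.card_pos.ne'
  let π : G → ℂ := H26.permChar (G ⧸ B)
  have hπA : ∀ a : A, π a = if a = 1 then (n : ℂ) else 0 := by
    intro a
    split_ifs with ha
    · subst ha
      show (Nat.card (MulAction.fixedBy (G ⧸ B) ((1 : A) : G)) : ℂ) = n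
      rw [OneMemClass.coe_one]
      simp only [MulAction.fixedBy_one_eq_univ, Nat.card_univ]
      exact_mod_cast congrArg (Nat.cast (R := ℂ)) hidx
    · show (Nat.card (MulAction.fixedBy (G ⧸ B) (a : G)) : ℂ) = 0
      rw [Nat.cast_eq_zero]
      haveI : IsEmpty (MulAction.fixedBy (G ⧸ B) (a : G)) := ⟨by
        rintro ⟨q, hq⟩
        induction q using QuotientGroup.induction_on with | _ h => ?_
        have hmem : h⁻¹ * a * h ∈ B := by
          have hq' : ((a : G) • (h : G ⧸ B)) = (h : G ⧸ B) := hq
          rw [MulAction.Quotient.smul_coe, smul_eq_mul] at hq'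
          have := QuotientGroup.eq.mp hq'.symm
          simpa [mul_assoc] using this
        have h1 : orderOf (a : G) ∣ n := by
          rw [Subgroup.orderOf_coe]; exact orderOf_dvd_natCard a
        have h2 : orderOf (a : G) ∣ Nat.card B := by
          rw [show orderOf (a : G) = orderOf (h⁻¹ * a * h) from
              orderOf_injective (MulAut.conj h⁻¹).toMonoidHom (MulEquiv.injective _) (a : G) |>.symm.trans
                (by simp)]
          rw [show orderOf (h⁻¹ * a * h) = orderOf (⟨_, hmem⟩ : B) from
            (Subgroup.orderOf_coe (⟨_, hmem⟩ : B))]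
          exact orderOf_dvd_natCard _
        exact ha (Subtype.ext (orderOf_eq_one_iff.mp
          (Nat.eq_one_of_dvd_coprimes hcop h1 h2)))⟩
      exact Nat.card_of_isEmpty
  obtain ⟨m, hm, hπ⟩ := H26.exists_nat_coeffs (H26.isCharacter_permChar (G := G) (G ⧸ B))
  choose k hk using fun (χ : Cfsg.IrrCharacter G) (l : ↥A →* ℂˣ) =>
    H26.exists_nat_classInner_irr
      (H26.isCharacter_comp (H26.irr_isCharacter χ) A.subtype)
      ⟨lin A l, H26.isIrrCharacter_hom l⟩
  have hsum : ∀ l : ↥A →* ℂˣ, ∑ χ, m χ * k χ l = 1 := by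
    intro l
    have h1 : Cfsg.classInner (fun a : A => π a) (lin A l) = 1 := by
      simp [Cfsg.classInner, hπA, lin]
      rw [← Nat.card_eq_fintype_card]
      exact inv_mul_cancel₀ hn0
    have h2 : (fun a : A => π a) =
        ∑ χ, (m χ : ℂ) • (fun a : A => χ.1 a) := by
      funext a
      show π (a : G) = _
      rw [show π = _ from hπ]
      simp [Finset.sum_apply]
    have hk' : ∀ χ, Cfsg.classInner (fun a : A => χ.1 a) (lin A l) = k χ l := fun χ => hk χ l
    rw [h2, H26.classInner_sum_left] at h1
    simp only [H26.classInner_smul_left, hk'] at h1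
    exact_mod_cast h1
  -- the value at one
  have hdeg : ∀ χ : Cfsg.IrrCharacter G, χ.1 1 = ((∑ l : ↥A →* ℂˣ, k χ l : ℕ) : ℂ) := by
    intro χ
    have h := H27.fourier_inversion (fun a : A => χ.1 a) 1
    simp only [map_one, Units.val_one, mul_one] at h
    rw [OneMemClass.coe_one] at h
    rw [h, Nat.cast_sum]
    refine Finset.sum_congr rfl fun l _ => ?_
    rw [← hk χ l]
    simp only [Cfsg.classInner, lin, H27.conj_linear]
    rfl
  set one := H26.oneIrr G with hone
  have hk1 : k one 1 = 1 := by
    have : Cfsg.classInner (fun a : A => one.1 a) (lin A 1) = k one 1 := hk one 1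
    rw [show (fun a : A => one.1 a) = lin A 1 from funext fun a => by simp [one, lin, H26.oneIrr_val],
      classInner_lin, if_pos rfl] at this
    exact_mod_cast this.symm
  have hm1 : m one = 1 := by
    have := hm one
    rw [show one.1 = fun _ : G => (1 : ℂ) from funext H26.oneIrr_val,
      H26.classInner_permChar_one] at this
    rw [show Nat.card (Quotient (MulAction.orbitRel G (G ⧸ B))) = 1 from ?_] at this
    · exact_mod_cast this.symm
    · haveI := MulAction.isPretransitive_quotient G B
      exact Nat.card_eq_one_iff_unique.mpr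
        ⟨⟨fun p q => by
          induction p using Quotient.inductionOn
          induction q using Quotient.inductionOn
          exact Quotient.sound (MulAction.exists_smul_eq G _ _)⟩, ⟨⟦(1 : G)⟧⟩⟩
  -- uniqueness of the owner of a linear character
  have huniq : ∀ (l : ↥A →* ℂˣ) (χ χ' : Cfsg.IrrCharacter G), χ ≠ χ' →
      m χ * k χ l ≠ 0 → m χ' * k χ' l = 0 := by
    intro l χ χ' hne h0
    have := hsum l
    rw [← Finset.add_sum_erase _ _ (Finset.mem_univ χ)] at this
    have h2 : m χ' * k χ' l ≤ ∑ ψ ∈ Finset.univ.erase χ, m ψ * k ψ l :=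
      Finset.single_le_sum (f := fun ψ => m ψ * k ψ l) (fun _ _ => Nat.zero_le _)
        (Finset.mem_erase.mpr ⟨hne.symm, Finset.mem_univ _⟩)
    omega
  have hle : ∀ χ l, m χ * k χ l ≤ 1 := by
    intro χ l
    rw [← hsum l]
    exact Finset.single_le_sum (f := fun ψ => m ψ * k ψ l) (fun _ _ => Nat.zero_le _)
      (Finset.mem_univ χ)
  have hinv : ∀ (χ : Cfsg.IrrCharacter G) (l : ↥A →* ℂˣ) (x : N),
      k χ (l.comp (cjHom A x)) = k χ l := by
    intro χ l x
    have e1 : Cfsg.classInner (fun a : A => χ.1 a) (lin A (l.comp (cjHom A x))) =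
        Cfsg.classInner (fun a : A => χ.1 a) (lin A l) := by
      simp only [Cfsg.classInner]
      congr 1
      refine Fintype.sum_bijective (cjHom A x)
        ((Finite.injective_iff_bijective).mp (cjHom_injective A x)) _ _ fun a => ?_
      congr 1
      rw [cjHom_val]
      exact (by simpa using (H26.irr_conj χ (a : G) (x : G)⁻¹).symm)
    have := (hk χ (l.comp (cjHom A x))).symm.trans (e1.trans (hk χ l))
    exact_mod_cast this
  -- the degree of a nontrivial constituent is prime to n
  have hcopdeg : ∀ χ : Cfsg.IrrCharacter G, χ ≠ one → m χ ≠ 0 →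
      (∑ l : ↥A →* ℂˣ, k χ l).Coprime n := by
    intro χ hχ hmχ
    set L := Finset.univ.filter fun l => k χ l ≠ 0 with hL
    have hkval : ∀ l ∈ L, k χ l = 1 := by
      intro l hl
      have h0 := (Finset.mem_filter.mp hl).2
      have := hle χ l
      have : k χ l ≤ m χ * k χ l := Nat.le_mul_of_pos_left _ (Nat.pos_of_ne_zero hmχ)
      omega
    have hd : ∑ l : ↥A →* ℂˣ, k χ l = L.card := by
      rw [← Finset.sum_filter_ne_zero, Finset.sum_congr rfl hkval, Finset.sum_const, smul_eq_mul,
        mul_one]
    have h1L : (1 : ↥A →* ℂˣ) ∉ L := by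
      intro h
      have := huniq 1 one χ (Ne.symm hχ) (by rw [hm1, hk1]; exact one_ne_zero)
      exact (mul_ne_zero hmχ (Finset.mem_filter.mp h).2) this
    rw [hd]
    by_cases hall : ∀ l : ↥A →* ℂˣ, l ≠ 1 → l ∈ L
    · have : L = Finset.univ.erase 1 := by
        ext l
        constructor
        · exact fun h => Finset.mem_erase.mpr ⟨fun e => h1L (e ▸ h), Finset.mem_univ _⟩
        · exact fun h => hall l (Finset.mem_erase.mp h).1
      rw [this, Finset.card_erase_of_mem (Finset.mem_univ _), Finset.card_univ,
        ← Nat.card_eq_fintype_card, H27.card_linear]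
      exact Nat.coprime_self_sub_left Nat.card_pos |>.mpr (Nat.coprime_one_left n)
    push Not at hall
    obtain ⟨mu, hmu1, hmuL⟩ := hall
    have hLne : L.Nonempty := by
      rw [← Finset.card_pos, ← hd, Nat.pos_iff_ne_zero]
      intro h0
      exact H26.irr_one_ne_zero χ (by rw [hdeg, h0, Nat.cast_zero])
    obtain ⟨l, hl⟩ := hLne
    have hl1 : l ≠ 1 := fun e => h1L (e ▸ hl)
    obtain ⟨χ', hχ'⟩ : ∃ χ', m χ' * k χ' mu ≠ 0 := by
      by_contra h
      push Not at h
      have := hsum mu
      rw [Finset.sum_eq_zero fun χ _ => h χ] at this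
      exact zero_ne_one this
    have hne : χ ≠ χ' := by
      rintro rfl
      exact hmuL (Finset.mem_filter.mpr ⟨Finset.mem_univ _, (mul_ne_zero_iff.mp hχ').2⟩)
    have hkmu : k χ mu = 0 := by
      by_contra h
      exact hmuL (Finset.mem_filter.mpr ⟨Finset.mem_univ _, h⟩)
    have hkmu' : k χ' mu = 1 := by
      have := hle χ' mu
      obtain ⟨h1, h2⟩ := mul_ne_zero_iff.mp hχ'
      have : k χ' mu ≤ m χ' * k χ' mu := Nat.le_mul_of_pos_left _ (Nat.pos_of_ne_zero h1)
      omega
    have hk'0 : ∀ l' ∈ L, k χ' l' = 0 := by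
      intro l' hl'
      have := huniq l' χ χ' hne (mul_ne_zero hmχ (Finset.mem_filter.mp hl').2)
      exact (mul_eq_zero.mp this).resolve_left (mul_ne_zero_iff.mp hχ').1
    let u : G → ℂ := χ.1 - χ'.1
    have heta : ∀ l' ∈ L, Cfsg.indFun A (lin A l' - lin A mu) = u := by
      intro l' hl'
      set θ := lin A l' - lin A mu with hθ
      set η := Cfsg.indFun A θ with hη
      have hηc : Cfsg.IsClassFunction G η := H25.isClassFunction_indFun A θ
      have hθ1 : θ 1 = 0 := by simp [θ, lin]
      have hpair : ∀ ψ : Cfsg.IrrCharacter G,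
          Cfsg.classInner η ψ.1 = (k ψ l' : ℂ) - (k ψ mu : ℂ) := by
        intro ψ
        rw [hη, H25.classInner_indFun_left A θ ψ.1 (H26.irr_isClassFunction ψ), hθ,
          H26.classInner_sub_left, H26.classInner_comm (fun a : A => ψ.1 a),
          H26.classInner_comm (fun a : A => ψ.1 a) (lin A mu),
          show Cfsg.classInner (fun a : A => ψ.1 a) (lin A l') = (k ψ l' : ℂ) from hk ψ l',
          show Cfsg.classInner (fun a : A => ψ.1 a) (lin A mu) = (k ψ mu : ℂ) from hk ψ mu]
        simp
      have hres : (fun a : A => η a) =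
          (n : ℂ)⁻¹ • ∑ x : N, (lin A (l'.comp (cjHom A x)) - lin A (mu.comp (cjHom A x))) := by
        funext a
        rw [hη, indFun_apply_mem A hC hab θ hθ1 a]
        simp only [θ, lin, Finset.sum_apply, Pi.smul_apply, Pi.sub_apply, smul_eq_mul,
          MonoidHom.comp_apply]
        rfl
      have hηη : Cfsg.classInner η η = 2 := by
        nth_rw 1 [hη]
        rw [H25.classInner_indFun_left A θ η hηc, hres, H26.classInner_smul_right,
          H26.classInner_sum_right]
        have hl'1 : l' ≠ 1 := fun e => h1L (e ▸ hl')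
        have hterm : ∀ x : N, Cfsg.classInner θ
            (lin A (l'.comp (cjHom A x)) - lin A (mu.comp (cjHom A x))) =
              (if l'.comp (cjHom A x) = l'.comp (cjHom A 1) then (1 : ℂ) else 0) +
              (if mu.comp (cjHom A x) = mu.comp (cjHom A 1) then 1 else 0) := by
          intro x
          have e1 : l' ≠ mu.comp (cjHom A x) := fun e => by
            have := (Finset.mem_filter.mp hl').2
            rw [e, hinv, hkmu] at this
            exact this rfl
          have e2 : mu ≠ l'.comp (cjHom A x) := fun e => by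
            have := hkmu
            rw [e, hinv] at this
            exact (Finset.mem_filter.mp hl').2 this
          rw [hθ, H26.classInner_sub_left, H26.classInner_sub_right, H26.classInner_sub_right,
            classInner_lin, classInner_lin, classInner_lin, classInner_lin, if_neg e1, if_neg e2,
            cjHom_one, MonoidHom.comp_id, MonoidHom.comp_id]
          simp only [eq_comm (a := l'), eq_comm (a := mu)]
          ring
        rw [Finset.sum_congr rfl fun x _ => hterm x, Finset.sum_add_distrib, Finset.sum_boole,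
          Finset.sum_boole, card_stab A hC hab hl'1, card_stab A hC hab hmu1, map_inv₀,
          map_natCast]
        field_simp
        try rw [← Nat.card_eq_fintype_card]
        try simp only [n]
        ring
      have h1 : Cfsg.classInner η χ.1 = 1 := by
        rw [hpair, hkval l' hl', hkmu]; simp
      have h2 : Cfsg.classInner η χ'.1 = -1 := by
        rw [hpair, hk'0 l' hl', hkmu']; simp
      have h11 : Cfsg.classInner χ.1 χ.1 = 1 := by rw [H26.classInner_irr, if_pos rfl]
      have h22 : Cfsg.classInner χ'.1 χ'.1 = 1 := by rw [H26.classInner_irr, if_pos rfl]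
      have h12 : Cfsg.classInner χ.1 χ'.1 = 0 := by rw [H26.classInner_irr, if_neg hne]
      have hηu : Cfsg.classInner η u = 2 := by
        rw [H26.classInner_sub_right, h1, h2]; norm_num
      have huu : Cfsg.classInner u u = 2 := by
        rw [H26.classInner_sub_left, H26.classInner_sub_right, H26.classInner_sub_right, h11, h22,
          h12, H26.classInner_comm χ.1 χ'.1, h12]
        simp; norm_num
      have hzero : Cfsg.classInner (η - u) (η - u) = 0 := by
        rw [H26.classInner_sub_left, H26.classInner_sub_right η η u,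
          H26.classInner_sub_right u η u, hηη, hηu, huu, H26.classInner_comm η u, hηu, map_ofNat]
        ring
      funext z
      have hs : ∑ z : G, Complex.normSq ((η - u) z) = 0 := by
        have h3 : (((∑ z : G, Complex.normSq ((η - u) z)) : ℝ) : ℂ) = 0 := by
          rw [Complex.ofReal_sum]
          have := hzero
          rw [Cfsg.classInner, mul_eq_zero] at this
          rcases this with h | h
          · exact absurd h (inv_ne_zero (Nat.cast_ne_zero.mpr Nat.card_pos.ne'))
          · simpa only [← Complex.mul_conj] using h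
        exact_mod_cast h3
      have := (Finset.sum_eq_zero_iff_of_nonneg fun z _ => Complex.normSq_nonneg _).mp hs z
        (Finset.mem_univ z)
      exact sub_eq_zero.mp (Complex.normSq_eq_zero.mp this)
    -- all members of L are conjugate
    have horb : ∀ l' ∈ L, ∃ x : N, l.comp (cjHom A x) = l' := by
      intro l' hl'
      have h0 : Cfsg.indFun A (lin A l - lin A l') = 0 := by
        have := (heta l hl).trans (heta l' hl').symm
        rw [H25.indFun_sub, H25.indFun_sub, sub_left_inj] at this
        rw [H25.indFun_sub, this, sub_self]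
      have hres : (n : ℂ)⁻¹ • ∑ x : N, (lin A (l.comp (cjHom A x)) - lin A (l'.comp (cjHom A x))) =
          0 := by
        funext a
        have := indFun_apply_mem A hC hab (lin A l - lin A l') (by simp [lin]) a
        rw [h0] at this
        simp [lin, Finset.sum_apply] at this ⊢
        first
          | exact Or.inr this.symm
          | exact this.symm
          | exact Or.inr this
      have h := congrArg (fun f => Cfsg.classInner f (lin A l')) hres
      simp only [H26.classInner_smul_left, H26.classInner_sum_left, H26.classInner_sub_left,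
        classInner_lin, H26.classInner_zero_left, Finset.sum_sub_distrib, Finset.sum_boole,
        mul_eq_zero, inv_eq_zero, hn0, false_or, sub_eq_zero, Nat.cast_inj] at h
      have h' : (Finset.univ.filter fun x : N => l'.comp (cjHom A x) = l').card = n := by
        have hl'1 : l' ≠ 1 := fun e => h1L (e ▸ hl')
        have := card_stab A hC hab hl'1 (1 : N)
        rwa [cjHom_one, MonoidHom.comp_id] at this
      rw [h'] at h
      obtain ⟨x, hx⟩ := Finset.card_pos.mp (lt_of_lt_of_eq (Nat.card_pos : 0 < n) h.symm)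
      exact ⟨x, (Finset.mem_filter.mp hx).2⟩
    have hLcard : L.card * n = Nat.card N := by
      have himg : Finset.univ.image (fun x : N => l.comp (cjHom A x)) = L := by
        ext l'
        simp only [Finset.mem_image, Finset.mem_univ, true_and]
        refine ⟨?_, horb l'⟩
        rintro ⟨x, rfl⟩
        exact Finset.mem_filter.mpr ⟨Finset.mem_univ _, by rw [hinv]; exact (Finset.mem_filter.mp hl).2⟩
      rw [Nat.card_eq_fintype_card, ← Finset.card_univ (α := N),
        Finset.card_eq_sum_card_image (fun x : N => l.comp (cjHom A x)) Finset.univ, himg,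
        Finset.sum_congr rfl (g := fun _ => n), Finset.sum_const, smul_eq_mul]
      intro l' hl'
      obtain ⟨x, rfl⟩ := horb l' hl'
      exact card_stab A hC hab hl1 x
    refine Nat.Coprime.coprime_dvd_left ?_ hcop.symm
    refine (Nat.mul_dvd_mul_iff_right (Nat.card_pos : 0 < n)).mp ?_
    rw [hLcard, show Nat.card B * n = Nat.card G by rw [← hidx, B.card_mul_index]]
    exact Subgroup.card_subgroup_dvd_card N
  haveI := Fintype.ofFinite M
  -- the average of a character over `M`
  let av : (G → ℂ) → ℂ := fun f => Cfsg.classInner (fun u : M => f u) (fun _ : M => (1 : ℂ))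
  -- Burnside
  have hval : ∀ χ : Cfsg.IrrCharacter G, m χ ≠ 0 → χ.1 y = av χ.1 := by
    intro χ hmχ
    have hconst : (∀ u ∈ M, χ.1 u = χ.1 1) → χ.1 y = av χ.1 := by
      intro hc
      have : av χ.1 = χ.1 1 := by
        simp only [av, Cfsg.classInner, map_one, mul_one]
        rw [Finset.sum_congr rfl fun (u : M) _ => hc u u.2, Finset.sum_const, Finset.card_univ,
          nsmul_eq_mul, ← Nat.card_eq_fintype_card, ← mul_assoc,
          inv_mul_cancel₀ (Nat.cast_ne_zero.2 (Nat.card_pos (α := M)).ne'), one_mul]
      rw [this]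
      exact hc y hyM
    by_cases hχ : χ = one
    · subst hχ
      exact hconst fun u _ => by simp [one, H26.oneIrr_val]
    obtain ⟨d, ρ, hirr, hρ⟩ := χ.2
    haveI := hirr
    have hd1 : χ.1 1 = (d : ℂ) := by rw [← hρ, ρ.char_one]; simp
    have hker : ∀ u ∈ M, M ≤ MonoidHom.ker ρ → χ.1 u = χ.1 1 := by
      intro u hu hle
      rw [hd1, ← hρ, (H25.char_eq_degree_iff ρ u).mpr (hle hu), Module.finrank_fin_fun]
    by_cases hle : M ≤ MonoidHom.ker ρ
    · exact hconst fun u hu => hker u hu hle
    -- the average vanishes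
    have havg : av χ.1 = 0 := by
      let f : G → ℂ := fun g => if g ∈ M then 1 else 0
      have hf : Cfsg.IsClassFunction G f := fun g k => by
        show (if k * g * k⁻¹ ∈ M then (1 : ℂ) else 0) = if g ∈ M then 1 else 0
        refine if_congr ⟨fun hg => ?_, fun hg => hM.conj_mem g hg k⟩ rfl rfl
        simpa [mul_assoc] using hM.conj_mem _ hg k⁻¹
      by_contra h0
      let T : Representation.IntertwiningMap ρ ρ :=
        ⟨∑ g : G, conj (f g) • ρ g, fun x => LinearMap.ext (H26.avgOp_comm ρ f hf x)⟩
      obtain ⟨c, hc⟩ :=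
        Representation.IsIrreducible.algebraMap_intertwiningMap_bijective_of_isAlgClosed
          (ρ := ρ) |>.2 T
      have hT : (∑ g : G, conj (f g) • ρ g) = c • LinearMap.id := by
        have := congrArg Representation.IntertwiningMap.toLinearMap hc
        simpa [T, Algebra.algebraMap_eq_smul_one, Representation.IntertwiningMap.toLinearMap_smul]
          using this.symm.trans (by ext v; simp)
      have hT' : (∑ g : G, conj (f g) • ρ g) = ∑ u : M, ρ u := by
        simp only [f, apply_ite conj, map_one, map_zero, ite_smul, one_smul, zero_smul,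
          ← Finset.sum_filter]
        exact Finset.sum_subtype (p := (· ∈ M)) _ (by simp) _
      have hc0 : c ≠ 0 := by
        rintro rfl
        apply h0
        have htr := congrArg (LinearMap.trace ℂ (Fin d → ℂ)) (hT'.symm.trans hT)
        rw [map_sum, zero_smul, map_zero] at htr
        show Cfsg.classInner (fun u : M => χ.1 u) (fun _ : M => (1 : ℂ)) = 0
        simp only [Cfsg.classInner, map_one, mul_one, ← hρ]
        rw [show (∑ u : M, ρ.character (u : G)) = 0 from htr, mul_zero]
      refine hle fun w hw => ?_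
      have h5 : ρ w * (∑ u : M, ρ u) = ∑ u : M, ρ u := by
        rw [Finset.mul_sum]
        refine Fintype.sum_equiv (Equiv.mulLeft (⟨w, hw⟩ : M)) _ _ fun u => ?_
        simp [← map_mul]
      rw [← hT', hT, ← Module.End.one_eq_id, mul_smul_comm, mul_one] at h5
      exact smul_right_injective _ hc0 h5
    rw [havg]
    have hcd : (Module.finrank ℂ (Fin d → ℂ)).Coprime B.index := by
      rw [Module.finrank_fin_fun, hidx]
      have : d = ∑ l : ↥A →* ℂˣ, k χ l := by exact_mod_cast hd1.symm.trans (hdeg χ)
      rw [this]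
      exact hcopdeg χ hχ hmχ
    rcases H25.char_eq_zero_or_norm_eq_of_coprime ρ y hcd with h | h
    · rw [← hρ]; exact h
    exfalso
    have hscal := H25.apply_eq_smul_id_of_norm_eq ρ y h
    have hKn : (MonoidHom.ker ρ : Subgroup G).Normal := MonoidHom.normal_ker ρ
    rcases hMmin (MonoidHom.ker ρ ⊓ M) inferInstance inf_le_right with e | e
    · obtain ⟨u, hu, hnc⟩ := hync
      have h1 : y * u * y⁻¹ * u⁻¹ ∈ MonoidHom.ker ρ ⊓ M := by
        refine ⟨?_, M.mul_mem (hM.conj_mem u hu y) (M.inv_mem hu)⟩
        have h2 : ρ y * ρ u = ρ u * ρ y := by rw [hscal]; simp [Module.End.mul_eq_comp]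
        show ρ (y * u * y⁻¹ * u⁻¹) = 1
        rw [map_mul, map_mul, map_mul, h2, mul_assoc (ρ u), ← map_mul ρ y, mul_inv_cancel, map_one,
          mul_one, ← map_mul, mul_inv_cancel, map_one]
      rw [e, Subgroup.mem_bot, mul_inv_eq_one, mul_inv_eq_iff_eq_mul] at h1
      exact hnc h1
    · exact hle (e ▸ inf_le_left)
  have hπy : π y = av π := by
    have hav : av π = ∑ χ, (m χ : ℂ) * av χ.1 := by
      show Cfsg.classInner (fun u : M => π u) (fun _ : M => (1 : ℂ)) = _
      rw [show (fun u : M => π u) = ∑ χ, (m χ : ℂ) • (fun u : M => χ.1 u) from funext fun u => by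
        show π (u : G) = _
        rw [show π = _ from hπ]
        simp [Finset.sum_apply], H26.classInner_sum_left]
      simp only [H26.classInner_smul_left, av]
    rw [hav, show π = _ from hπ, Finset.sum_apply]
    refine Finset.sum_congr rfl fun χ _ => ?_
    by_cases h : m χ = 0
    · simp [h]
    · simp [hval χ h]
  have horb : av π = (Nat.card (Quotient (MulAction.orbitRel M (G ⧸ B))) : ℂ) := by
    rw [← H26.classInner_permChar_one (G := M) (G ⧸ B)]
    rfl
  rw [horb] at hπy
  exact_mod_cast (show (Nat.card (MulAction.fixedBy (G ⧸ B) y) : ℂ) =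
    (Nat.card (Quotient (MulAction.orbitRel M (G ⧸ B))) : ℂ) from hπy)

/-- In the situation of `card_fixed_eq_orbits`, if every conjugate of `y` commutes with an
`M`-conjugate of `y`, then `y` is the only `M`-conjugate of `y` in `C(y)`. -/
theorem unique_fixed [Finite G] (A : Subgroup G)
    (hab : ∀ a ∈ A, ∀ b ∈ A, a * b = b * a)
    (hC : ∀ a ∈ A, a ≠ 1 → ∀ g : G, g * a = a * g → g ∈ A)
    (y : G) (hidx : (Subgroup.centralizer ({y} : Set G)).index = Nat.card A)
    (hcop : (Nat.card A).Coprime (Nat.card (Subgroup.centralizer ({y} : Set G))))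
    (M : Subgroup G) [M.Normal] (hMmin : ∀ X : Subgroup G, X.Normal → X ≤ M → X = ⊥ ∨ X = M)
    (hyM : y ∈ M) (hync : ∃ u ∈ M, ¬ Commute y u)
    (hsurj : ∀ k : G, ∃ u ∈ M, Commute (u * y * u⁻¹) (k * y * k⁻¹))
    (u : G) (hu : u ∈ M) (huy : Commute (u * y * u⁻¹) y) : u * y * u⁻¹ = y := by
  classical
  set B := Subgroup.centralizer ({y} : Set G) with hB
  have hfixed : ∀ w : G, Commute (w⁻¹ * y * w) y →
      ((w : G) : G ⧸ B) ∈ MulAction.fixedBy (G ⧸ B) y := by
    intro w hw
    rw [MulAction.mem_fixedBy, MulAction.Quotient.smul_coe, smul_eq_mul, QuotientGroup.eq]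
    have : w⁻¹ * y * w ∈ B := Subgroup.mem_centralizer_singleton_iff.2 hw
    simpa [mul_assoc] using B.inv_mem this
  let φ : MulAction.fixedBy (G ⧸ B) y → Quotient (MulAction.orbitRel M (G ⧸ B)) :=
    fun q => ⟦q.1⟧
  have hsur : Function.Surjective φ := by
    intro q
    induction q using Quotient.inductionOn with | _ q => ?_
    induction q using QuotientGroup.induction_on with | _ k => ?_
    obtain ⟨n, hn, hc⟩ := hsurj k
    have hc' : Commute ((n⁻¹ * k)⁻¹ * y * (n⁻¹ * k)) y := by
      have := (Commute.conj_iff k⁻¹).2 hc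
      simpa [mul_assoc] using this
    refine ⟨⟨((n⁻¹ * k : G) : G ⧸ B), hfixed _ hc'⟩, Quotient.sound ?_⟩
    exact ⟨⟨n⁻¹, M.inv_mem hn⟩, by rfl⟩
  have hinj : Function.Injective φ :=
    (hsur.bijective_of_nat_card_le
      (card_fixed_eq_orbits A hab hC y hidx hcop M hMmin hyM hync).le).1
  have h1 : Commute (((1 : G))⁻¹ * y * 1) y := by simp
  have h2 : Commute ((u⁻¹)⁻¹ * y * u⁻¹) y := by rwa [inv_inv]
  have := @hinj ⟨_, hfixed _ h2⟩ ⟨_, hfixed _ h1⟩ (Quotient.sound ⟨⟨u⁻¹, M.inv_mem hu⟩, by
    show ((u⁻¹ * 1 : G) : G ⧸ B) = _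
    rw [mul_one]⟩)
  have := QuotientGroup.eq.1 (congrArg Subtype.val this)
  rw [inv_inv, mul_one] at this
  have hc := Subgroup.mem_centralizer_singleton_iff.1 this
  rw [hc]; group

end Cfsg.Agent.H63.RankThree
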