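import Cfsg.Agent.H63.RankThree.Basic
import Mathlib.GroupTheory.FixedPointFree

/-!
# Elements inverted by an involution
-/

set_option autoImplicit false

namespace Cfsg.Agent.H63.RankThree

universe u

variable {G : Type u} [Group G] [Finite G]

omit [Finite G] in
theorem mul_self_of_orderOf_two {t : G} (ht : orderOf t = 2) : t * t = 1 := by
  rw [← pow_two, ← ht, pow_orderOf_eq_one]

omit [Finite G] in
theorem inv_of_orderOf_two {t : G} (ht : orderOf t = 2) : t⁻¹ = t :=
  inv_eq_of_mul_eq_one_right (mul_self_of_orderOf_two ht)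

/-- An element inverting `v` normalises `C v`. -/
theorem mem_normalizer_C {t v : G} (htv : t * v * t⁻¹ = v⁻¹) :
    t ∈ Subgroup.normalizer (C v : Set G) := by
  refine Subgroup.mem_normalizer_fintype fun u hu => ?_
  have h := conj_mem_C_conj t hu
  rwa [htv, C_inv] at h

/-- An involution inverting `v` with no fixed points on `C v` inverts all of `C v`. -/
theorem inverts_all {t v : G} (ht : orderOf t = 2) (htv : t * v * t⁻¹ = v⁻¹)
    (hfree : ∀ u ∈ C v, Commute u t → u = 1) {u : G} (hu : u ∈ C v) : t * u * t⁻¹ = u⁻¹ := by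
  have hmem : ∀ w : C v, t * (w : G) * t⁻¹ ∈ C v := fun w => by
    have h := conj_mem_C_conj t w.2
    rwa [htv, C_inv] at h
  let φ : C v →* C v :=
    { toFun := fun w => ⟨t * w * t⁻¹, hmem w⟩
      map_one' := Subtype.ext (by simp)
      map_mul' := fun a b => Subtype.ext (by simp [mul_assoc]) }
  have hfix : MonoidHom.FixedPointFree φ := fun w hw => by
    have e : t * (w : G) * t⁻¹ = w := congrArg Subtype.val hw
    exact Subtype.ext (hfree _ w.2 (mul_inv_eq_iff_eq_mul.1 e).symm)
  have hinv : Function.Involutive φ := fun w => Subtype.ext <| by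
    show t * (t * (w : G) * t⁻¹) * t⁻¹ = w
    rw [inv_of_orderOf_two ht, show t * (t * (w : G) * t) * t = (t * t) * w * (t * t) by group,
      mul_self_of_orderOf_two ht, one_mul, mul_one]
  exact congrArg Subtype.val (congrFun (hfix.coe_eq_inv_of_involutive hinv) ⟨u, hu⟩)

/-- If `t` inverts all of `C v`, then `C v` is abelian. -/
theorem comm_of_inverts {t v : G} (h : ∀ u ∈ C v, t * u * t⁻¹ = u⁻¹) {p q : G} (hp : p ∈ C v)
    (hq : q ∈ C v) : p * q = q * p := by
  have e := h _ ((C v).mul_mem ((C v).inv_mem hp) ((C v).inv_mem hq))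
  rw [show t * (p⁻¹ * q⁻¹) * t⁻¹ = (t * p⁻¹ * t⁻¹) * (t * q⁻¹ * t⁻¹) by group,
    h _ ((C v).inv_mem hp), h _ ((C v).inv_mem hq), inv_inv, inv_inv, mul_inv_rev, inv_inv,
    inv_inv] at e
  exact e

end Cfsg.Agent.H63.RankThree
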