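import Mathlib
import Mathlib.GroupTheory.Sylow

/-!
# Simple groups with three non-trivial class sizes: the strict-inclusion case
-/

set_option autoImplicit false

namespace Cfsg.Agent.H63.RankThree

universe u

variable {G : Type u} [Group G]

/-- The centraliser of an element. -/
abbrev C (x : G) : Subgroup G := Subgroup.centralizer ({x} : Set G)

/-- The order of the centraliser of an element. -/
noncomputable def cc (x : G) : ℕ := Nat.card (C x)

theorem mem_C {x g : G} : g ∈ C x ↔ Commute g x :=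
  Subgroup.mem_centralizer_singleton_iff

theorem self_mem_C (x : G) : x ∈ C x := mem_C.2 (Commute.refl x)

theorem C_le_pow (x : G) (k : ℕ) : C x ≤ C (x ^ k) := fun _ hg =>
  mem_C.2 ((mem_C.1 hg).pow_right k)

theorem C_inv (x : G) : C x⁻¹ = C x := by
  ext g; rw [mem_C, mem_C, Commute.inv_right_iff]

theorem conj_mem_C_conj {x g : G} (h : G) (hg : g ∈ C x) : h * g * h⁻¹ ∈ C (h * x * h⁻¹) :=
  mem_C.2 (Commute.conj_iff h |>.2 (mem_C.1 hg))

theorem C_conj (h x : G) : C (h * x * h⁻¹) = (C x).map (MulAut.conj h).toMonoidHom := by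
  ext g
  rw [Subgroup.mem_map]
  constructor
  · intro hg
    refine ⟨h⁻¹ * g * h, ?_, by simp [mul_assoc]⟩
    have := conj_mem_C_conj h⁻¹ hg
    simpa [mul_assoc] using this
  · rintro ⟨k, hk, rfl⟩
    exact conj_mem_C_conj h hk

theorem cc_conj (h x : G) : cc (h * x * h⁻¹) = cc x := by
  unfold cc
  rw [C_conj]
  exact Nat.card_congr (Subgroup.equivMapOfInjective _ _ (MulEquiv.injective _)).symm.toEquiv

theorem index_mul_cc (x : G) : cc x * (C x).index = Nat.card G := (C x).card_mul_index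

theorem orderOf_dvd_cc {x g : G} (hg : g ∈ C x) : orderOf g ∣ cc x := by
  rw [show orderOf g = orderOf (⟨g, hg⟩ : C x) from Subgroup.orderOf_coe (⟨g, hg⟩ : C x)]
  exact orderOf_dvd_natCard _

theorem orderOf_dvd_cc_self (x : G) : orderOf x ∣ cc x := orderOf_dvd_cc (self_mem_C x)

section Fin

variable [Finite G]

theorem cc_pos (x : G) : 0 < cc x := Nat.card_pos

theorem eq_C_of_le {x y : G} (h : C x ≤ C y) (e : cc y ≤ cc x) : C x = C y :=
  Subgroup.eq_of_le_of_card_ge h e

/-- A power of prime order. -/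
theorem exists_pow_prime {x : G} (hx : x ≠ 1) :
    ∃ k : ℕ, ∃ p : ℕ, p.Prime ∧ orderOf (x ^ k) = p ∧ p ∣ orderOf x := by
  obtain ⟨p, hp, hd⟩ := Nat.exists_prime_and_dvd (mt orderOf_eq_one_iff.1 hx)
  refine ⟨orderOf x / p, p, hp, ?_, hd⟩
  rw [orderOf_pow_of_dvd ((Nat.div_ne_zero_iff_of_dvd hd).2 ⟨(orderOf_pos x).ne', hp.ne_zero⟩)
    (Nat.div_dvd_of_dvd hd), Nat.div_div_self hd (orderOf_pos x).ne']

/-- A factor of a product of commuting elements of coprime order is a power of the product. -/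
theorem C_mul_le {u v : G} (h : Commute u v) (hc : (orderOf u).Coprime (orderOf v)) :
    C (u * v) ≤ C u := by
  obtain ⟨k, hk1, hk2⟩ := Nat.chineseRemainder hc 1 0
  have e : (u * v) ^ k = u := by
    rw [h.mul_pow, pow_eq_pow_iff_modEq.2 hk1, pow_one,
      orderOf_dvd_iff_pow_eq_one.1 (Nat.modEq_zero_iff_dvd.1 hk2), mul_one]
  conv_rhs => rw [← e]
  exact C_le_pow _ k

theorem mul_ne_one_of_coprime {u v : G} (hu : u ≠ 1)
    (hc : (orderOf u).Coprime (orderOf v)) : u * v ≠ 1 := by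
  intro e
  rw [← orderOf_inv v, ← eq_inv_of_mul_eq_one_left e, Nat.coprime_self] at hc
  exact hu (orderOf_eq_one_iff.1 hc)

/-- A `p`-subgroup is conjugate into a centraliser of index prime to `p`. -/
theorem exists_conj_le {p : ℕ} [Fact p.Prime] {S : Subgroup G} (hS : IsPGroup p S) {g : G}
    (hg : ¬ p ∣ (C g).index) : ∃ h : G, ∀ u ∈ S, h * u * h⁻¹ ∈ C g := by
  obtain ⟨q, hq⟩ := hS.nonempty_fixed_point_of_prime_not_dvd_card (G ⧸ C g) hg
  obtain ⟨h, rfl⟩ := QuotientGroup.mk_surjective q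
  refine ⟨h⁻¹, fun u hu => ?_⟩
  have h1 : ((u * h : G) : G ⧸ C g) = (h : G ⧸ C g) := hq ⟨u, hu⟩
  have h2 := (C g).inv_mem (QuotientGroup.eq.1 h1)
  simpa [mul_assoc] using h2

theorem exists_conj_mem {p : ℕ} [Fact p.Prime] {u g : G} (hu : ∃ k : ℕ, orderOf u = p ^ k)
    (hg : ¬ p ∣ (C g).index) : ∃ h : G, h * u * h⁻¹ ∈ C g := by
  obtain ⟨k, hk⟩ := hu
  obtain ⟨h, hh⟩ := exists_conj_le (p := p) (S := Subgroup.zpowers u)
    (IsPGroup.of_card (n := k) (by rw [Nat.card_zpowers, hk])) hg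
  exact ⟨h, hh u (Subgroup.mem_zpowers u)⟩

/-- A nontrivial element of the centre of a Sylow subgroup. -/
theorem exists_central {p : ℕ} [Fact p.Prime] (S : Sylow p G) (hp : p ∣ Nat.card G) :
    ∃ z : G, z ≠ 1 ∧ z ∈ S ∧ (S : Subgroup G) ≤ C z ∧ ¬ p ∣ (C z).index ∧ p ∣ orderOf z := by
  haveI : Nontrivial (S : Subgroup G) :=
    (Subgroup.nontrivial_iff_ne_bot _).2 (S.ne_bot_of_dvd_card hp)
  haveI := IsPGroup.center_nontrivial (p := p) (G := (S : Subgroup G)) S.2
  obtain ⟨⟨z, hz⟩, hz1⟩ := exists_ne (1 : Subgroup.center (S : Subgroup G))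
  have hle : (S : Subgroup G) ≤ C (z : G) := fun w hw =>
    mem_C.2 (congrArg Subtype.val (Subgroup.mem_center_iff.1 hz ⟨w, hw⟩))
  have hne : (z : G) ≠ 1 := fun e => hz1 (Subtype.ext (Subtype.ext e))
  refine ⟨z, hne, z.2, hle, fun hd => S.not_dvd_index (hd.trans (Subgroup.index_dvd_of_le hle)), ?_⟩
  obtain ⟨k, hk⟩ := IsPGroup.iff_orderOf.1 S.2 z
  rw [Subgroup.orderOf_coe, hk]
  refine dvd_pow_self p ?_
  rintro rfl
  rw [pow_zero, orderOf_eq_one_iff] at hk
  exact hne (by rw [hk]; rfl)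

/-- An element normalising a subgroup, of order prime to its index, lies in it. -/
theorem mem_of_normalizer {H : Subgroup G} {g : G} (hg : g ∈ Subgroup.normalizer (H : Set G))
    (hc : (orderOf g).Coprime H.index) : g ∈ H := by
  set N := Subgroup.normalizer (H : Set G)
  haveI : (H.subgroupOf N).Normal := Subgroup.normal_in_normalizer
  have h1 : orderOf ((⟨g, hg⟩ : N) : N ⧸ H.subgroupOf N) ∣ orderOf g := by
    have := orderOf_map_dvd (QuotientGroup.mk' (H.subgroupOf N)) ⟨g, hg⟩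
    rwa [Subgroup.orderOf_mk] at this
  have h2 : orderOf ((⟨g, hg⟩ : N) : N ⧸ H.subgroupOf N) ∣ H.index :=
    orderOf_dvd_natCard _ |>.trans (Subgroup.relIndex_dvd_index_of_le Subgroup.le_normalizer)
  have := (QuotientGroup.eq_one_iff _).1 (orderOf_eq_one_iff.1 (Nat.eq_one_of_dvd_coprimes hc h1 h2))
  exact this

end Fin

/-- Coprime indices give a factorisation `G = C(z) C(g)`. -/
theorem exists_factor [Finite G] {g z : G} (hcop : ((C g).index).Coprime (C z).index) (w : G) :
    ∃ u ∈ C z, u⁻¹ * w ∈ C g := by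
  let φ : C z ⧸ (C g).subgroupOf (C z) → G ⧸ C g :=
    Quotient.map' (fun u : C z => (u : G)) fun u v huv => by
      rw [QuotientGroup.leftRel_apply] at huv ⊢; exact huv
  have hinj : Function.Injective φ := fun p q => by
    induction p using QuotientGroup.induction_on
    induction q using QuotientGroup.induction_on
    intro e
    exact QuotientGroup.eq.2 (Subgroup.mem_subgroupOf.2 (by simpa using QuotientGroup.eq.1 e))
  have hdvd : (C g).index ∣ (C g).relIndex (C z) := by
    have h1 : (C g ⊓ C z).index = (C g).relIndex (C z) * (C z).index := by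
      rw [← Subgroup.inf_relIndex_right, Subgroup.relIndex_mul_index inf_le_right]
    exact hcop.dvd_of_dvd_mul_right (h1 ▸ Subgroup.index_dvd_of_le inf_le_left)
  have hb : Function.Bijective φ := hinj.bijective_of_nat_card_le (Nat.le_of_dvd
    (Nat.pos_of_ne_zero ((C g).subgroupOf (C z)).index_ne_zero_of_finite) hdvd)
  obtain ⟨p, hp⟩ := hb.2 (w : G ⧸ C g)
  induction p using QuotientGroup.induction_on with | _ u => ?_
  exact ⟨u, u.2, QuotientGroup.eq.1 hp⟩

end Cfsg.Agent.H63.RankThree
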